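import Cfsg.Agent.H394.PBTools_m3
import Cfsg.Agent.H315.RatB.ON
import Cfsg.Agent.H492.FactsON
import Cfsg.Agent.H210.ON3.Cent
import Cfsg.Agent.H535.Ore.ON
import Cfsg.Agent.Prune
set_option linter.all false
prune_inst 0x7f00000000000000000000000000000000000000000000000000000000000000000000000000000000000000000000000000000000000000000000000000000000000000000000000000000000000000003fffffffffffffffffffffffffffbeffbdffffffff
open scoped Cfsg.Agent.FastGrp

/-!
# S4612: the row of the O'Nan group (helper968)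

Degrees `10944 = 2^6 3^2 19`, `26752 = 2^7 11 19`, `32395 = 5 11 19 31`, `175616 = 2^9 7^3`, `207360 = 2^9 3^4 5`.
-/

set_option autoImplicit false

open Cfsg Subgroup

namespace Cfsg.Agent.H968.PQ.ON

open Cfsg.Agent.H317.PQ Cfsg.Agent.H709.PB Cfsg.Agent.H894.PQ
open Cfsg.Spor (ON)
open Cfsg.Agent.KFacts.ON.Cent (finite_ON)
open Cfsg.Agent.H474.ONC Cfsg.Agent.H315.RatB.ON

universe u

theorem nb_three : NB 3 2 ON := by
  have hfin := finite_ON
  have h3F : Fact (Nat.Prime 3) := ⟨Nat.prime_three⟩
  refine NB.of_orders (a := 4) (by rw [card_ON]; norm_num) fun y hy h => ?_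
  rcases H680.PBON.cases hy (by rw [← card_ON]; exact orderOf_dvd_natCard y) with h' | h' | h' | h' | h' | h' | h'
  · rw [card_cent_two h']; norm_num
  · exact absurd h' h
  · rw [card_cent_five h']; norm_num
  · exact fun h3 => not_three_seven h' ((by norm_num : 3 ∣ 3 ^ (4 + 1 - 2)).trans h3)
  · rw [card_cent_eleven h']; norm_num
  · rw [H680.ONThirtyOne.card_cent_nineteen h']; norm_num
  · rw [H680.ONThirtyOne.card_cent h']; norm_num

theorem nb_seven : NB 7 2 ON := by
  have hfin := finite_ON
  have h7F : Fact (Nat.Prime 7) := ⟨by norm_num⟩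
  refine NB.of_orders (a := 3) (by rw [card_ON]; norm_num) fun y hy h => ?_
  rcases H680.PBON.cases hy (by rw [← card_ON]; exact orderOf_dvd_natCard y) with h' | h' | h' | h' | h' | h' | h'
  · rw [card_cent_two h']; norm_num
  · rw [card_cent_three h']; norm_num
  · rw [card_cent_five h']; norm_num
  · exact absurd h' h
  · rw [card_cent_eleven h']; norm_num
  · rw [H680.ONThirtyOne.card_cent_nineteen h']; norm_num
  · rw [H680.ONThirtyOne.card_cent h']; norm_num

theorem nb_11 : NB 11 1 ON := by
  obtain ⟨y, h1, h2, -⟩ := H680.PBON.real_eleven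
  exact H680.PBON.nb_self (by norm_num) h1 h2

theorem nb_19 : NB 19 1 ON := by
  obtain ⟨y, h1, h2, -⟩ := H680.PBON.real_nineteen
  exact H680.PBON.nb_self (by norm_num) h1 h2

theorem nb_31 : NB 31 1 ON := by
  obtain ⟨y, h1, h2⟩ := H680.PBON.exists_31
  exact H680.PBON.nb_self (by norm_num) h1 h2

theorem deg {d : ℕ} (h : ∃ χ : IrrCharacter ON, (χ : ON → ℂ) 1 = (d : ℕ)) :
    ∃ χ : IrrCharacter ON, charDegree (χ : ON → ℂ) = d := by
  obtain ⟨χ, hχ⟩ := h
  exact ⟨χ, Cfsg.Agent.Blocks.Basic.charDegree_of_eq hχ⟩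

/-- the test -/
def tst (d p a q b : ℕ) : Bool :=
  decide (b ≠ 0) && (decide (d % p ^ a ≠ 0) && (decide (d % q ^ b = 0) && (decide (460815505920 % q ^ b = 0) &&
    decide (460815505920 % q ^ (b + 1) ≠ 0))))

theorem kl {d p q a b : ℕ} (hd : ∃ χ : IrrCharacter ON, charDegree (χ : ON → ℂ) = d) (hp : p.Prime) (hq : q.Prime)
    (h : NB p a ON) (ht : tst d p a q b = true) : ¬ Same p q ON := by
  have := finite_ON
  obtain ⟨χ, hχ⟩ := hd
  simp only [tst, Bool.and_eq_true, decide_eq_true_eq] at ht
  obtain ⟨h1, h2, h3, h4, h5⟩ := ht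
  exact kill hp hq h hχ (fun h6 => h2 (Nat.mod_eq_zero_of_dvd h6)) h1 (Nat.dvd_of_mod_eq_zero h3)
    (by rw [card_ON]; exact Nat.dvd_of_mod_eq_zero h4) (by rw [card_ON]; exact fun h6 => h5 (Nat.mod_eq_zero_of_dvd h6))

theorem row : Row ON := by
  have := finite_ON
  have dA := deg H492.FactsON.exists_10944
  have dB := deg H492.FactsON.exists_26752
  have dC := deg H492.FactsON.exists_32395
  have dD := H210.On7.exists_charDegree
  have dE := H210.ON3.exists_charDegree
  have n2 := H680.PBON.nb_two
  apply Row.of_lt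
  intro p q hp hq hpq hpG hqG
  rw [card_ON] at hpG hqG
  rcases H680.PBON.cases hp hpG with rfl | rfl | rfl | rfl | rfl | rfl | rfl <;>
    rcases H680.PBON.cases hq hqG with rfl | rfl | rfl | rfl | rfl | rfl | rfl <;>
    first
      | (exfalso; revert hpq; decide)
      | skip
  · exact fun h => kl (b := 9) dD hq hp nb_three (by decide +kernel) h.symm
  · exact kl (b := 1) dC hp hq n2 (by decide +kernel)
  · exact fun h => kl (b := 9) dE hq hp nb_seven (by decide +kernel) h.symm
  · exact kl (b := 1) dC hp hq n2 (by decide +kernel)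
  · exact kl (b := 1) dC hp hq n2 (by decide +kernel)
  · exact kl (b := 1) dC hp hq n2 (by decide +kernel)
  · exact kl (b := 1) dC hp hq nb_three (by decide +kernel)
  · exact kl (b := 3) dD hp hq nb_three (by decide +kernel)
  · exact kl (b := 1) dC hp hq nb_three (by decide +kernel)
  · exact kl (b := 1) dC hp hq nb_three (by decide +kernel)
  · exact kl (b := 1) dC hp hq nb_three (by decide +kernel)
  · exact fun h => kl (b := 1) dC hq hp nb_seven (by decide +kernel) h.symm
  · exact fun h => kl (b := 1) dE hq hp nb_11 (by decide +kernel) h.symm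
  · exact fun h => kl (b := 1) dE hq hp nb_19 (by decide +kernel) h.symm
  · exact fun h => kl (b := 1) dE hq hp nb_31 (by decide +kernel) h.symm
  · exact kl (b := 1) dC hp hq nb_seven (by decide +kernel)
  · exact kl (b := 1) dC hp hq nb_seven (by decide +kernel)
  · exact kl (b := 1) dC hp hq nb_seven (by decide +kernel)
  · exact kl (b := 1) dA hp hq nb_11 (by decide +kernel)
  · exact fun h => kl (b := 1) dB hq hp nb_31 (by decide +kernel) h.symm
  · exact fun h => kl (b := 1) dB hq hp nb_31 (by decide +kernel) h.symm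

/-- **The row of the O'Nan group.** -/
theorem row_on {S : Type u} [Group S] (h : Cfsg.Spor.IsoON S) : Row S := by
  obtain ⟨e⟩ := h
  exact H766.PQ.Row.of_equiv e.symm row

end Cfsg.Agent.H968.PQ.ON

private theorem dce_d5204e001691 : _root_.True := by
  try have : _root_.True := by simp only [_root_.Cfsg.Agent.H968.PQ.ON.tst.eq_1]
  exact _root_.True.intro
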