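import Cfsg.Agent.H676.Deg.Res
import Cfsg.Agent.H642.PQ.Full
import Cfsg.Agent.H315.HT.Mixed
import Cfsg.Agent.H740.Eight.TwFTwo
import Cfsg.Agent.H766.PQ.A01_m3
import Mathlib.LinearAlgebra.Lagrange
import Cfsg.Agent.S1068
import Cfsg.Agent.CharactersDeep.MackeyLinear
import Cfsg.Agent.S0174
import Cfsg.Agent.Blocks.Deflate
import Cfsg.Agent.FastGrp
import Cfsg.Agent.Prune
set_option linter.all false

section
prune_inst 0x7ffda9f8fbadbbffdfff7e37a6d9cdfc15848fffacdff943ffe06b9faf9f23a309c573a509e092fe8e77421410a87843fb7eeeffe86fdc7ffffd5ff41ffbee4ff5f7b50851d488340fbc2ffe03f07f8e6f3fffffffffffffffffffffffffffffffbffbfeffff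

-- part: H968/PQ/RatOne
section
set_option linter.all false
open scoped Cfsg.Agent.FastGrp

/-!
# Rational characters of degree `± 1` modulo an exact prime (helper968, for S4612)

`|P| = p`, `K` the `p`-regular elements of `C(P)`; `χ` irreducible with rational values, `χ(1) = ± 1 mod p`.

* `const_of_rat` : `χ (x y)` (`x ∈ P \ 1`, `y ∈ K`) does not depend on `x`;
* `mem_of_rat` : if no nontrivial irreducible character of `K` has an orbit with `|orbit| θ(1) = ± 1 mod p` then `χ ∈ B0 p G`;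
* `mem_of_deg7` : the case `K` with the character degrees 1, 3, 3, 6, 7, 8, `p = 17`.
-/

set_option autoImplicit false
set_option linter.unusedSectionVars false

open Cfsg

namespace Cfsg.Agent.H968.PQ.RatOne

open Subgroup
open Cfsg.Agent.Characters.Core
open Cfsg.Agent.SmallSimple.ThetaSetup Cfsg.Agent.SmallSimple.ThetaOrtho
open Cfsg.Agent.SmallSimple.TheoremC Cfsg.Agent.SmallSimple.TheoremCCor
open Cfsg.Agent.H676.Deg Cfsg.Agent.H317.PQ Cfsg.Agent.H727.DegCount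

universe u

variable {G : Type u} [Group G] [Finite G] {p : ℕ} [Fact p.Prime] {P : Sylow p G} {K : Subgroup G}

theorem const_of_rat (hK : IsComp p (P : Subgroup G) K) (hP : Nat.card P = p) {χ : G → ℂ} (hχ : IsCharacter G χ)
    (hr : ∀ g : G, ∃ q : ℚ, χ g = q) : Const P K χ := by
  have hp : p.Prime := Fact.out
  intro x x' hx hx' y
  have hxo : orderOf (x : G) = p :=
    Cfsg.Agent.Blocks.CyclicOrtho.orderOf_eq P hP x.2 fun h => hx (Subtype.ext h)
  have hZ : zpowers (x : G) = (P : Subgroup G) := by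
    refine Subgroup.eq_of_le_of_card_ge (by rw [zpowers_le]; exact x.2) ?_
    rw [Nat.card_zpowers, hxo]
    exact hP.le
  have hmem : (x' : G) ∈ zpowers (x : G) := by rw [hZ]; exact x'.2
  have hxp : (x : G) ^ p = 1 := orderOf_dvd_iff_pow_eq_one.1 (by rw [hxo])
  rw [← mem_powers_iff_mem_zpowers] at hmem
  obtain ⟨a, ha'⟩ := hmem
  have ha' : (x : G) ^ a = x' := ha'
  have ha : Nat.Coprime a p := by
    rw [Nat.coprime_comm, hp.coprime_iff_not_dvd]
    rintro ⟨b, rfl⟩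
    apply hx'
    apply Subtype.ext
    rw [← ha', pow_mul, hxp, one_pow]
    rfl
  have hN : Nat.Coprime p (Nat.card K) := hp.coprime_iff_not_dvd.2 hK.not_dvd_card
  obtain ⟨m, hm1, hm2⟩ := Nat.chineseRemainder hN a 1
  have hmc : m.Coprime (p * Nat.card K) := by
    refine Nat.Coprime.mul_right ?_ ?_
    · rw [Nat.coprime_iff_gcd_eq_one, hm1.gcd_eq]; exact ha
    · rw [Nat.coprime_iff_gcd_eq_one, hm2.gcd_eq]; exact Nat.gcd_one_left _
  have hn0 : p * Nat.card K ≠ 0 := Nat.mul_ne_zero hp.ne_zero Nat.card_pos.ne'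
  obtain ⟨σ, hσ⟩ := Characters.GaloisBasic.exists_ringEquiv_pow hn0 hmc
  have hc : Commute (x : G) (y : G) := hK.comm x.2 y.2
  have hyN : (y : G) ^ Nat.card K = 1 := by
    have h1 : y ^ Nat.card K = 1 := pow_card_eq_one'
    exact_mod_cast congrArg (Subtype.val : K → G) h1
  have hg : ((x : G) * y) ^ (p * Nat.card K) = 1 := by
    rw [hc.mul_pow, pow_mul, hxp, one_pow, one_mul, mul_comm, pow_mul, hyN, one_pow]
  have h1 := Characters.GaloisBasic.map_apply (σ : ℂ →+* ℂ) hσ hχ hn0 hg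
  have h2 : ((x : G) * y) ^ m = (x' : G) * y := by
    rw [hc.mul_pow, ← ha']
    congr 1
    · exact pow_eq_pow_iff_modEq.2 (hm1.of_dvd (orderOf_dvd_of_pow_eq_one hxp))
    · have h3 : (y : G) ^ m = (y : G) ^ 1 := pow_eq_pow_iff_modEq.2 (hm2.of_dvd (orderOf_dvd_of_pow_eq_one hyN))
      rw [h3, pow_one]
  obtain ⟨q, hq⟩ := hr ((x : G) * y)
  show χ (x * y) = χ ((x' : G) * y)
  rw [← h2, ← h1, hq]
  simp

/-- **rational characters of degree `± 1`** -/
theorem mem_of_rat (hK : IsComp p (P : Subgroup G) K) (hP : Nat.card P = p) (χ : IrrCharacter G)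
    (hr : ∀ g : G, ∃ q : ℚ, (χ : G → ℂ) g = q) (h0 : ¬ p ∣ charDegree (χ : G → ℂ))
    (hθ : ∀ (θ : IrrCharacter K) (n : ℕ), (θ : K → ℂ) 1 = n → (θ : K → ℂ) ≠ 1 →
      ¬ (p : ℤ) ∣ (charDegree (χ : G → ℂ) : ℤ) - ((orb P K (θ : K → ℂ)).card * n : ℕ) ∧
      ¬ (p : ℤ) ∣ (charDegree (χ : G → ℂ) : ℤ) + ((orb P K (θ : K → ℂ)).card * n : ℕ)) : χ ∈ B0 p G := by
  have hp : p.Prime := Fact.out
  have hd : (χ : G → ℂ) 1 = (charDegree (χ : G → ℂ) : ℂ) := Cfsg.Agent.Blocks.Basic.irr_one_eq_charDegree χ.2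
  rcases val_const hK hP χ (const_of_rat hK hP (isIrr_isCharacter χ.2) hr) with ⟨-, k, hk⟩ | ⟨θ, δ, hδ, hval, k, hk⟩
  · exfalso
    apply h0
    rw [hd] at hk
    have h1 : (charDegree (χ : G → ℂ) : ℤ) = p * k := by exact_mod_cast hk
    have h2 : (p : ℤ) ∣ (charDegree (χ : G → ℂ) : ℤ) := ⟨k, h1⟩
    exact_mod_cast h2
  · obtain ⟨n, -, hn⟩ := isIrr_apply_one θ.2
    rw [hd, hn] at hk
    have hk' : (charDegree (χ : G → ℂ) : ℤ) = δ * ((orb P K (θ : K → ℂ)).card * n : ℕ) + p * k := by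
      push_cast
      exact_mod_cast hk
    have hθ1 : (θ : K → ℂ) = 1 := by
      by_contra hne
      obtain ⟨h1, h2⟩ := hθ θ n hn hne
      rcases hδ with rfl | rfl
      · exact h1 ⟨k, by rw [hk']; ring⟩
      · exact h2 ⟨k, by rw [hk']; ring⟩
    have horb : orb P K (θ : K → ℂ) = {θ} := orb_eq_of_one hK θ hθ1
    have hn1 : n = 1 := by
      rw [hθ1, Pi.one_apply] at hn
      exact_mod_cast hn.symm
    rw [horb, Finset.card_singleton, hn1] at hk'
    obtain ⟨x, hx⟩ := exists_ne_P hP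
    refine Cfsg.Agent.H642.PQ.mem_of_val hp P.isPGroup' χ h0 fun y hy hyp _ => ?_
    obtain ⟨v, hv⟩ := Characters.GaloisBasic.exists_int_of_rat (isIrr_isCharacter χ.2) y (hr y)
    refine ⟨v, hv, ?_⟩
    have hyK : y ∈ K := (hK y).2 ⟨hy, hyp⟩
    have h1 := hval x hx ⟨y, hyK⟩
    rw [horb, Finset.sum_singleton, hθ1, Pi.one_apply, mul_one] at h1
    obtain ⟨M, hM⟩ := Cfsg.Agent.Blocks.ExistsModular.exists_isPModular hp
    have hMp : M.IsPrime := Cfsg.Agent.Blocks.Local.isPrime_of_isPModular hM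
    have hc : Commute (x : G) y := hK.comm x.2 hyK
    have hxo : orderOf (x : G) = p := by
      refine Cfsg.Agent.Blocks.CyclicOrtho.orderOf_eq P hP x.2 fun h => hx (Subtype.ext h)
    have h2 := Cfsg.Agent.CharactersDeep.ModCongr.memLocalIdeal_character_sub hM χ.2 ((x : G) * y) x
      (Cfsg.Agent.Blocks.PPart.isPPart_mul hc ⟨1, by rw [hxo, pow_one]⟩ hyp)
    rw [h1, inv_mul_cancel_left, hv] at h2
    have h3 : (p : ℤ) ∣ δ - v := Cfsg.Agent.H642.PQ.int_dvd_of_mem hM (by push_cast; exact h2)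
    have h4 : v - (charDegree (χ : G → ℂ) : ℤ) = -(δ - v) + p * (-k) := by
      rw [hk']; push_cast; ring
    rw [h4]
    exact dvd_add ((dvd_neg (α := ℤ)).2 h3) (dvd_mul_right _ _)

theorem eq_one_of_cnt {H : Type u} [Group H] [Finite H] (h : cnt H 1 = 1) {θ : IrrCharacter H}
    (hn : (θ : H → ℂ) 1 = ((1 : ℕ) : ℂ)) : (θ : H → ℂ) = 1 := by
  unfold cnt at h
  obtain ⟨⟨a, ha⟩, hall⟩ := Nat.card_eq_one_iff_exists.1 h
  have h1 := hall ⟨θ, hn⟩
  have h2 := hall ⟨⟨1, isIrr_one⟩, by simp⟩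
  have h3 : θ = ⟨1, isIrr_one⟩ := congrArg Subtype.val (h1.trans h2.symm)
  rw [h3]

/-- the case of the Monster and the prime 17 -/
theorem mem_of_deg7 [Fact (Nat.Prime 17)] {P : Sylow 17 G} (hK : IsComp 17 (P : Subgroup G) K) (hP : Nat.card P = 17)
    (D : H442.ZerosSmall.Deg7 K) (χ : IrrCharacter G) (hr : ∀ g : G, ∃ q : ℚ, (χ : G → ℂ) g = q)
    (hd : charDegree (χ : G → ℂ) % 17 = 1 ∨ charDegree (χ : G → ℂ) % 17 = 16) : χ ∈ B0 17 G := by
  refine mem_of_rat hK hP χ hr (by omega) fun θ n hn hne => ?_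
  have h4 := card_orb_pos (P := P) θ
  have h6 := card_orb_le_cnt (P := P) hK θ hn
  have h7 := D.mem n (lt_of_lt_of_le h4 h6)
  simp only [Finset.mem_insert, Finset.mem_singleton] at h7
  have key : ∀ c m : ℕ, m = c * n → (m = 3 ∨ m = 6 ∨ m = 7 ∨ m = 8) → (orb P K (θ : K → ℂ)).card = c →
      ¬ ((17 : ℕ) : ℤ) ∣ (charDegree (χ : G → ℂ) : ℤ) - ((orb P K (θ : K → ℂ)).card * n : ℕ) ∧
      ¬ ((17 : ℕ) : ℤ) ∣ (charDegree (χ : G → ℂ) : ℤ) + ((orb P K (θ : K → ℂ)).card * n : ℕ) := by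
    intro c m hm h1 hc
    rw [hc, ← hm, Nat.cast_ofNat]
    generalize charDegree (χ : G → ℂ) = d at hd
    rcases h1 with rfl | rfl | rfl | rfl <;> constructor <;> omega
  rcases h7 with rfl | rfl | rfl | rfl | rfl
  · exact absurd (eq_one_of_cnt D.one hn) hne
  · rw [D.three] at h6
    have : (orb P K (θ : K → ℂ)).card = 1 ∨ (orb P K (θ : K → ℂ)).card = 2 := by omega
    rcases this with h | h
    · exact key 1 3 rfl (by simp) h
    · exact key 2 6 rfl (by simp) h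
  · rw [D.six] at h6
    exact key 1 6 rfl (by simp) (by omega)
  · rw [D.seven] at h6
    exact key 1 7 rfl (by simp) (by omega)
  · rw [D.eight] at h6
    exact key 1 8 rfl (by simp) (by omega)

end Cfsg.Agent.H968.PQ.RatOne
end

-- part: H638/PQ/TwFMF
section
prune_inst 0x4000040000000000001020000200300000020040000080020106094000400040800000800010080000800000000000100000000000000a000000000100000000000000000000000000800000010000000000000000000000000000000000004010000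
set_option linter.all false
open scoped Cfsg.Agent.FastGrp

/-!
# S4612, row `²F₄(q)`, part (1): the permutation character of rank five (task 5076)

`P` the maximal parabolic subgroup of index `(q + 1) (q³ + 1) (q⁶ + 1)` of `G = ²F₄(q)`, `q = 2 ^ (2m + 1)`, `m ≥ 1`:
`1_P^G` is the sum of five different irreducible characters of known degrees (`exists_mf`).

General part: `char_of_idem` (the character of a primitive idempotent of the Hecke algebra), `mf_of_oct` (the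
decomposition for a group with a (B,N)-pair of type `I₂(8)` with the parameters `q², q`).
-/

set_option autoImplicit false
set_option linter.unusedSectionVars false

namespace Cfsg.Agent.H638.PQ.TwFMF

open Cfsg Cfsg.Agent.LieRecognition.FeitHigmanGroup Cfsg.Agent.LieExceptional.BNPairCore
open Cfsg.Agent.LieRecognition.FeitHigmanHecke (Y Y_def Y_symm Y_mul_A Y_mul_B comm_sq aeval_P_mul Y_mul_AB)
open Cfsg.Agent.H740.Eight.Hecke Cfsg.Agent.H740.Eight.HeckeAlg Cfsg.Agent.H740.Eight.HeckeDeg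

universe u

/-! ### The character of an idempotent -/

section GSet

variable {G : Type*} [Group G] {X : Type*} [MulAction G X] [Fintype X] [DecidableEq X]

theorem trace_perm_comp (e : Matrix X X ℂ) (g : G) :
    LinearMap.trace ℂ (X → ℂ) (perm G X g ∘ₗ Matrix.toLin' e) = ∑ x, e x (g • x) := by
  rw [LinearMap.trace_eq_matrix_trace ℂ (Pi.basisFun ℂ X), Matrix.trace]
  refine Fintype.sum_equiv (MulAction.toPerm g⁻¹) _ _ fun y => ?_
  rw [Matrix.diag_apply, LinearMap.toMatrix_apply]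
  simp only [Pi.basisFun_apply, Pi.basisFun_repr, LinearMap.comp_apply]
  rw [perm_apply, Matrix.toLin'_apply, Matrix.mulVec_single_one]
  show e (g⁻¹ • y) y = e (g⁻¹ • y) (g • g⁻¹ • y)
  rw [smul_inv_smul]

/-- **A primitive idempotent gives an irreducible character** -/
theorem idem_char [Finite G] {e : Matrix X X ℂ} (hinv : Inv G e) (he : e * e = e) (hne : e ≠ 0)
    (hprim : ∀ M : Matrix X X ℂ, Inv G M → ∃ c : ℂ, e * M * e = c • e) :
    IsIrrCharacter G (fun g : G => ∑ x, e x (g • x)) := by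
  set E := Matrix.toLin' e with hE
  have hEE : ∀ v, E (E v) = E v := fun v => by
    have h1 : E ∘ₗ E = E := by rw [hE, ← Matrix.toLin'_mul, he]
    exact LinearMap.congr_fun h1 v
  set W := LinearMap.range E with hW
  have hWE : ∀ v ∈ W, E v = v := by
    rintro _ ⟨v, rfl⟩
    exact hEE v
  have hWinv : ∀ g, ∀ v ∈ W, perm G X g v ∈ W := by
    intro g v hv
    refine ⟨perm G X g v, ?_⟩
    rw [hE, perm_comm hinv, ← hE, hWE v hv]
  let ρ : Representation ℂ G W :=
    { toFun := fun g => (perm G X g).restrict (hWinv g)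
      map_one' := by
        refine LinearMap.ext fun v => Subtype.ext ?_
        show perm G X 1 (v : X → ℂ) = v
        rw [map_one]; rfl
      map_mul' := fun g h => by
        refine LinearMap.ext fun v => Subtype.ext ?_
        show perm G X (g * h) (v : X → ℂ) = perm G X g (perm G X h v)
        rw [map_mul]; rfl }
  have hρ : ∀ g (v : W), ((ρ g v : W) : X → ℂ) = perm G X g v := fun g v => rfl
  have hnt : Nontrivial W := by
    rw [Submodule.nontrivial_iff_ne_bot]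
    intro h
    apply hne
    have h1 : E = 0 := LinearMap.range_eq_bot.1 h
    rw [hE] at h1
    exact (LinearEquiv.map_eq_zero_iff _).1 h1
  have hirr : ρ.IsIrreducible := by
    apply irreducible_of_scalar
    intro f hf
    set L : (X → ℂ) →ₗ[ℂ] (X → ℂ) := W.subtype ∘ₗ f ∘ₗ E.rangeRestrict with hL
    have hLa : ∀ v, L v = (f (E.rangeRestrict v) : X → ℂ) := fun v => rfl
    have hLc : ∀ (g : G) v, L (perm G X g v) = perm G X g (L v) := by
      intro g v
      rw [hLa, hLa, ← hρ, ← hf]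
      congr 2
      apply Subtype.ext
      show E (perm G X g v) = perm G X g (E v)
      rw [hE, perm_comm hinv]
    obtain ⟨c, hc⟩ := hprim _ (inv_of_comm hLc)
    have h1 : ∀ v, E (L (E v)) = c • E v := by
      intro v
      have h2 := congrArg Matrix.toLin' hc
      rw [Matrix.toLin'_mul, Matrix.toLin'_mul, Matrix.toLin'_toMatrix', map_smul] at h2
      exact LinearMap.congr_fun h2 v
    refine ⟨c, fun w => Subtype.ext ?_⟩
    have h3 := h1 (w : X → ℂ)
    have h4 : E.rangeRestrict (w : X → ℂ) = w := Subtype.ext (hWE _ w.2)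
    rw [hWE _ w.2, hLa, h4, hWE _ (f w).2] at h3
    exact h3
  have h5 : ρ.character = fun g : G => ∑ x, e x (g • x) := by
    funext g
    rw [← trace_perm_comp, ← hE]
    have h6 : perm G X g ∘ₗ E = (perm G X g ∘ₗ W.subtype) ∘ₗ E.rangeRestrict := by
      refine LinearMap.ext fun v => ?_
      rfl
    rw [h6, LinearMap.trace_comp_comm']
    show LinearMap.trace ℂ W (ρ g) = _
    congr 1
    refine LinearMap.ext fun v => Subtype.ext ?_
    show perm G X g (v : X → ℂ) = E (perm G X g (v : X → ℂ))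
    rw [hWE _ (hWinv g v v.2)]
  rw [← h5]
  exact Characters.Core.isIrrCharacter_of_rep ρ hirr

end GSet

variable {G : Type u} [Group G] {P : BNPair G} [Finite G] [Fintype (G ⧸ P.B)] [DecidableEq (G ⧸ P.B)]

/-- **the character of a primitive idempotent of the Hecke algebra** -/
theorem char_of_idem {s t : G} (hS : P.S = {s, t}) {e : Matrix (G ⧸ P.B) (G ⧸ P.B) ℝ} (hinv : Inv G e)
    (he : e * e = e) (hne : e ≠ 0) {α c₁ c₂ c₃ : ℝ} (h1 : T P s * e = α • e)
    (h2 : T P s * (T P t * e) = c₁ • e + c₂ • (T P t * e)) (h3 : e * (T P t * e) = c₃ • e) :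
    IsIrrCharacter G (fun g : G => ((∑ x, e x (g • x) : ℝ) : ℂ)) := by
  classical
  have ht : t ∈ P.S := by rw [hS]; simp
  set U : Submodule ℝ (Matrix (G ⧸ P.B) (G ⧸ P.B) ℝ) := Submodule.span ℝ {e, T P t * e} with hU
  have heU : e ∈ U := Submodule.subset_span (by simp only [_root_.Set.mem_insert_iff, _root_.Set.mem_singleton_iff, _root_.true_or])
  have hfU : T P t * e ∈ U := Submodule.subset_span (by simp only [_root_.Set.mem_insert_iff, _root_.Set.mem_singleton_iff, _root_.or_true])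
  have hA : ∀ x ∈ U, T P s * x ∈ U := by
    intro x hx
    obtain ⟨a, b, rfl⟩ := Submodule.mem_span_pair.1 hx
    rw [mul_add, mul_smul_comm, mul_smul_comm, h1, h2]
    exact U.add_mem (U.smul_mem _ (U.smul_mem _ heU)) (U.smul_mem _ (U.add_mem (U.smul_mem _ heU) (U.smul_mem _ hfU)))
  have hB : ∀ x ∈ U, T P t * x ∈ U := by
    intro x hx
    obtain ⟨a, b, rfl⟩ := Submodule.mem_span_pair.1 hx
    rw [mul_add, mul_smul_comm, mul_smul_comm, ← mul_assoc (T P t) (T P t), T_sq ht, add_mul, smul_mul_assoc,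
      smul_mul_assoc, one_mul]
    exact U.add_mem (U.smul_mem _ hfU) (U.smul_mem _ (U.add_mem (U.smul_mem _ hfU) (U.smul_mem _ heU)))
  have hcor : ∀ w : G, ∃ c : ℝ, e * T P w * e = c • e := by
    intro w
    obtain ⟨a, b, hab⟩ := Submodule.mem_span_pair.1 (T_mul_mem hS U hA hB w heU)
    refine ⟨a + b * c₃, ?_⟩
    rw [mul_assoc, ← hab, mul_add, mul_smul_comm, mul_smul_comm, he, h3, smul_smul, add_smul]
  set e' : Matrix (G ⧸ P.B) (G ⧸ P.B) ℂ := e.map Complex.ofReal with he'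
  have hmul : ∀ A B : Matrix (G ⧸ P.B) (G ⧸ P.B) ℝ, (A * B).map Complex.ofReal =
      A.map Complex.ofReal * B.map Complex.ofReal := fun A B => Matrix.map_mul (f := Complex.ofRealHom)
  have hprim : ∀ M : Matrix (G ⧸ P.B) (G ⧸ P.B) ℂ, Inv G M → ∃ c : ℂ, e' * M * e' = c • e' := by
    intro M hM
    refine Submodule.span_induction (p := fun M _ => ∃ c : ℂ, e' * M * e' = c • e') ?_ ?_ ?_ ?_ (mem_span hM)
    · rintro _ ⟨w, rfl⟩
      obtain ⟨c, hc⟩ := hcor w
      refine ⟨c, ?_⟩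
      show e' * (T P w).map Complex.ofReal * e' = _
      rw [he', ← hmul, ← hmul, hc]
      ext x y
      simp
    · exact ⟨0, by simp⟩
    · rintro A B _ _ ⟨a, ha⟩ ⟨b, hb⟩
      exact ⟨a + b, by rw [mul_add, add_mul, ha, hb, add_smul]⟩
    · rintro a A _ ⟨b, hb⟩
      exact ⟨a * b, by rw [mul_smul_comm, smul_mul_assoc, hb, smul_smul]⟩
  have hne' : e' ≠ 0 := by
    intro h
    apply hne
    ext x y
    have h4 := congrFun (congrFun h x) y
    rw [he', Matrix.map_apply, Matrix.zero_apply] at h4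
    rw [Matrix.zero_apply]
    exact_mod_cast h4
  have h5 := idem_char (hinv.map Complex.ofReal) (by rw [← hmul, he]) hne' hprim
  convert h5 using 2 with g
  rw [Complex.ofReal_sum]
  rfl

/-- central idempotents -/
theorem char_of_central {s t : G} (hS : P.S = {s, t}) {p : Matrix (G ⧸ P.B) (G ⧸ P.B) ℝ} {θ : ℝ} (hinv : Inv G p)
    (hpA : T P s * p = p * T P s) (hpp : p * p = p) (hY : Y (T P s) (T P t) (q P s) (q P t) * p = θ • p)
    (htr : p.trace + (p * T P s).trace ≠ 0) :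
    IsIrrCharacter G (fun g : G => ((∑ x, ee (T P s) p (q P s) x (g • x) : ℝ) : ℂ)) ∧
      (ee (T P s) p (q P s)).trace * (1 + q P s) = p.trace + (p * T P s).trace := by
  have hs : s ∈ P.S := by rw [hS]; simp
  have ha : (1 : ℝ) + (q P s : ℝ) ≠ 0 := by positivity
  have hA := T_sq (P := P) hs
  set e := ee (T P s) p (q P s) with he
  have htre : e.trace * (1 + q P s) = p.trace + (p * T P s).trace := by
    have h9 : p * (1 + T P s) = p + p * T P s := by rw [mul_add, mul_one]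
    rw [he, ee_def, h9, Matrix.trace_smul, Matrix.trace_add, smul_eq_mul]
    field_simp
  have hne : e ≠ 0 := by
    intro h
    rw [h, Matrix.trace_zero, zero_mul] at htre
    exact htr htre.symm
  have hinv' : Inv G e := by
    rw [he, ee_def]
    exact Inv.smul _ (hinv.mul (Inv.one.add (inv_T s)))
  exact ⟨char_of_idem hS hinv' (ee_sq hA ha hpA hpp) hne (A_ee hA hpA) (A_B_ee hA hY hpA)
    (ee_B_ee hA ha hY hpA hpp), htre⟩

/-! ### The parabolic subgroup `B ∪ B s B` -/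

section par

omit [Finite G] [Fintype (G ⧸ P.B)] [DecidableEq (G ⧸ P.B)]

variable (P) in
/-- `B ∪ B s B` -/
def par {s : G} (hs : s ∈ P.S) : Subgroup G where
  carrier := {g | g ∈ P.B ∨ g ∈ C P s}
  one_mem' := Or.inl (one_mem _)
  inv_mem' := by
    rintro g (h | h)
    · exact Or.inl (inv_mem h)
    · right
      have := inv_mem_C h
      rwa [inv_rel hs] at this
  mul_mem' := by
    rintro g h (hg | hg) (hh | hh)
    · exact Or.inl (mul_mem hg hh)
    · exact Or.inr (mul_mem_C_left hg hh)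
    · exact Or.inr (mul_mem_C_right hh hg)
    · have h1 : R P s ((1 : G) : G ⧸ P.B) (g : G ⧸ P.B) := R_mk_iff.2 (by rwa [inv_one, one_mul])
      have h2 : R P s (g : G ⧸ P.B) ((g * h : G) : G ⧸ P.B) := R_mk_iff.2 (by rwa [inv_mul_cancel_left])
      rcases R_trans hs h1 h2 with h3 | h3
      · left
        rw [QuotientGroup.eq, inv_one, one_mul] at h3
        exact h3
      · right
        rwa [R_mk_iff, inv_one, one_mul] at h3

theorem mem_par {s : G} (hs : s ∈ P.S) {g : G} : g ∈ par P hs ↔ g ∈ P.B ∨ g ∈ C P s := Iff.rfl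

theorem le_par {s : G} (hs : s ∈ P.S) : P.B ≤ par P hs := fun _ h => Or.inl h

variable (P) in
/-- `gB ↦ gP` -/
def proj {s : G} (hs : s ∈ P.S) : G ⧸ P.B → G ⧸ par P hs := Subgroup.quotientMapOfLE (le_par hs)

theorem proj_mk {s : G} (hs : s ∈ P.S) (g : G) : proj P hs (g : G ⧸ P.B) = (g : G ⧸ par P hs) := rfl

theorem proj_smul {s : G} (hs : s ∈ P.S) (g : G) (x : G ⧸ P.B) : proj P hs (g • x) = g • proj P hs x := by
  induction x using QuotientGroup.induction_on with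
  | H h => rfl

theorem proj_eq_iff {s : G} (hs : s ∈ P.S) {x y : G ⧸ P.B} : proj P hs x = proj P hs y ↔ x = y ∨ R P s x y := by
  induction x using QuotientGroup.induction_on with
  | H g =>
  induction y using QuotientGroup.induction_on with
  | H h => rw [proj_mk, proj_mk, QuotientGroup.eq, mem_par, QuotientGroup.eq, R_mk_iff]

end par

omit [Finite G] in
open Classical in
theorem one_add_T_apply {s : G} (hs : s ∈ P.S) (x y : G ⧸ P.B) :
    ((1 : Matrix (G ⧸ P.B) (G ⧸ P.B) ℝ) + T P s) x y = if proj P hs x = proj P hs y then 1 else 0 := by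
  rw [Matrix.add_apply, Matrix.one_apply, T_apply]
  by_cases h : x = y
  · subst h
    rw [if_pos rfl, if_pos rfl, if_neg (R_irrefl (not_mem_B hs) x), add_zero]
  · rw [if_neg h, zero_add]
    have h1 := proj_eq_iff hs (x := x) (y := y)
    by_cases h2 : R P s x y
    · rw [if_pos h2, if_pos (h1.2 (Or.inr h2))]
    · rw [if_neg h2, if_neg]
      intro h3
      rcases h1.1 h3 with h4 | h4
      · exact h h4
      · exact h2 h4

omit [Finite G] in
theorem card_fiber {s : G} (hs : s ∈ P.S) (z : G ⧸ par P hs) : Nat.card {x : G ⧸ P.B // proj P hs x = z} = 1 + q P s := by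
  classical
  induction z using QuotientGroup.induction_on with
  | H g =>
    rw [Nat.card_eq_fintype_card, Fintype.card_subtype]
    have h1 : (Finset.univ.filter fun x : G ⧸ P.B => proj P hs x = (g : G ⧸ par P hs)) =
        insert (g : G ⧸ P.B) (Finset.univ.filter fun x => R P s (g : G ⧸ P.B) x) := by
      ext x
      simp only [Finset.mem_filter, Finset.mem_univ, true_and, Finset.mem_insert]
      rw [← proj_mk hs, eq_comm, proj_eq_iff hs, eq_comm]
    rw [h1, Finset.card_insert_of_notMem, card_filter_R, add_comm]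
    simp only [Finset.mem_filter, Finset.mem_univ, true_and]
    exact R_irrefl (not_mem_B hs) _

omit [DecidableEq (G ⧸ P.B)] in
/-- the index of the parabolic subgroup -/
theorem index_par {s : G} (hs : s ∈ P.S) : (par P hs).index * (1 + q P s) = Nat.card (G ⧸ P.B) := by
  classical
  have : Fintype (G ⧸ par P hs) := Fintype.ofFinite _
  have h1 : Nat.card (G ⧸ P.B) = ∑ z : G ⧸ par P hs, Nat.card {x : G ⧸ P.B // proj P hs x = z} := by
    rw [← Nat.card_congr (Equiv.sigmaFiberEquiv (proj P hs)), Nat.card_sigma]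
  rw [h1, Finset.sum_congr rfl fun z _ => card_fiber hs z, Finset.sum_const, Finset.card_univ, smul_eq_mul,
    ← Nat.card_eq_fintype_card, Subgroup.index_eq_card]

/-- the permutation character -/
theorem sum_fix {s : G} (hs : s ∈ P.S) (g : G) :
    ∑ x : G ⧸ P.B, ((1 + (q P s : ℝ))⁻¹ • ((1 : Matrix (G ⧸ P.B) (G ⧸ P.B) ℝ) + T P s)) x (g • x) =
      (Nat.card (MulAction.fixedBy (G ⧸ par P hs) g) : ℝ) := by
  classical
  have : Fintype (G ⧸ par P hs) := Fintype.ofFinite _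
  have h0 : (1 : ℝ) + (q P s : ℝ) ≠ 0 := by positivity
  have h1 : ∀ x : G ⧸ P.B, ((1 + (q P s : ℝ))⁻¹ • ((1 : Matrix (G ⧸ P.B) (G ⧸ P.B) ℝ) + T P s)) x (g • x) =
      (1 + (q P s : ℝ))⁻¹ * (if proj P hs x ∈ MulAction.fixedBy (G ⧸ par P hs) g then 1 else 0) := by
    intro x
    rw [Matrix.smul_apply, one_add_T_apply hs, smul_eq_mul, proj_smul]
    congr 1
    simp only [MulAction.mem_fixedBy]
    by_cases h : g • proj P hs x = proj P hs x
    · rw [if_pos h.symm, if_pos h]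
    · rw [if_neg (fun h' => h h'.symm), if_neg h]
  rw [Finset.sum_congr rfl fun x _ => h1 x, ← Finset.mul_sum]
  have h2 : ∑ x : G ⧸ P.B, (if proj P hs x ∈ MulAction.fixedBy (G ⧸ par P hs) g then (1 : ℝ) else 0) =
      (Nat.card (MulAction.fixedBy (G ⧸ par P hs) g) : ℝ) * (1 + q P s) := by
    rw [Finset.sum_boole]
    have h3 : (Finset.univ.filter fun x : G ⧸ P.B => proj P hs x ∈ MulAction.fixedBy (G ⧸ par P hs) g).card =
        Nat.card (MulAction.fixedBy (G ⧸ par P hs) g) * (1 + q P s) := by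
      rw [Finset.card_eq_sum_card_fiberwise (f := proj P hs)
        (t := Finset.univ.filter fun z : G ⧸ par P hs => z ∈ MulAction.fixedBy (G ⧸ par P hs) g)]
      · rw [Finset.sum_congr rfl (g := fun _ => 1 + q P s), Finset.sum_const, smul_eq_mul, Nat.card_eq_fintype_card,
          Fintype.card_subtype]
        · intro z hz
          rw [← card_fiber hs z, Nat.card_eq_fintype_card, Fintype.card_subtype]
          congr 1
          ext x
          simp only [Finset.mem_filter, Finset.mem_univ, true_and] at hz ⊢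
          constructor
          · rintro ⟨-, h⟩; exact h
          · intro h; exact ⟨by rw [h]; exact hz, h⟩
      · intro x hx
        simpa using hx
    rw [h3]
    push_cast
    ring
  rw [h2]
  field_simp

/-! ### The Hecke algebra of type `I₂(8)` -/

section alg

open Polynomial

variable {M : Type*} [Ring M] [Algebra ℝ M] {A B : M} {a b : ℝ}

/-- the eigenvalues of the central element -/
def vv (a b σ : ℝ) : Fin 5 → ℝ := ![a * b + 1, -(a + b), σ, -σ, 0]

theorem nodal_vv (a b : ℝ) {σ : ℝ} (hσ : σ ^ 2 = 2 * (a * b)) :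
    Lagrange.nodal Finset.univ (vv a b σ) =
      Cfsg.Agent.LieRecognition.FeitHigmanHecke.P (a * b) 3 * ((X - Polynomial.C (a * b + 1)) * (X + Polynomial.C (a + b))) := by
  have e2 : Cfsg.Agent.LieRecognition.FeitHigmanHecke.P (a * b) 2 =
      X * Cfsg.Agent.LieRecognition.FeitHigmanHecke.P (a * b) 1 -
        Polynomial.C (a * b) * Cfsg.Agent.LieRecognition.FeitHigmanHecke.P (a * b) 0 :=
    Cfsg.Agent.LieRecognition.FeitHigmanHecke.P_add_two _ 0
  have e3 : Cfsg.Agent.LieRecognition.FeitHigmanHecke.P (a * b) 3 =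
      X * Cfsg.Agent.LieRecognition.FeitHigmanHecke.P (a * b) 2 -
        Polynomial.C (a * b) * Cfsg.Agent.LieRecognition.FeitHigmanHecke.P (a * b) 1 :=
    Cfsg.Agent.LieRecognition.FeitHigmanHecke.P_add_two _ 1
  have hσ' : (Polynomial.C σ : ℝ[X]) ^ 2 = 2 * (Polynomial.C a * Polynomial.C b) := by
    rw [← C_pow, hσ, C_mul, C_mul]
    rfl
  rw [e3, e2, Cfsg.Agent.LieRecognition.FeitHigmanHecke.P_one, Cfsg.Agent.LieRecognition.FeitHigmanHecke.P_zero,
    Lagrange.nodal_eq, Fin.prod_univ_five]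
  simp only [vv, Matrix.cons_val_zero, Matrix.cons_val_one, Matrix.cons_val, C_neg, C_add, C_mul, C_0, C_1]
  linear_combination (-(X * (X - (Polynomial.C a * Polynomial.C b + 1)) * (X + (Polynomial.C a + Polynomial.C b)))) * hσ'

theorem aeval_nodal (hA : A * A = (a - 1) • A + a • (1 : M)) (hB : B * B = (b - 1) • B + b • (1 : M))
    (hbr : (A * B) ^ 4 = (B * A) ^ 4) {σ : ℝ} (hσ : σ ^ 2 = 2 * (a * b)) :
    aeval (Y A B a b) (Lagrange.nodal Finset.univ (vv a b σ)) = 0 := by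
  have h1 := aeval_P_mul hA hB 3
  rw [hbr, sub_self] at h1
  have h3 := comm_sq hA hB
  have h2 : aeval (Y A B a b) ((X - Polynomial.C (a * b + 1)) * (X + Polynomial.C (a + b)) : ℝ[X]) =
      (Y A B a b - (a * b + 1) • (1 : M)) * (Y A B a b + (a + b) • (1 : M)) := by
    rw [map_mul, map_sub, map_add (aeval (Y A B a b)) X, aeval_X, aeval_C, aeval_C, Algebra.algebraMap_eq_smul_one,
      Algebra.algebraMap_eq_smul_one]
  rw [nodal_vv a b hσ, map_mul, h2, ← h3, ← mul_assoc, h1, zero_mul]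

variable {y : M} {n : ℕ} {v : Fin n → ℝ}

/-- the Lagrange idempotents -/
noncomputable def ff (y : M) (v : Fin n → ℝ) (i : Fin n) : M := aeval y (Lagrange.basis Finset.univ v i)

theorem sub_mul_basis (v : Fin n → ℝ) (i : Fin n) : ∃ c : ℝ, (X - Polynomial.C (v i)) * Lagrange.basis Finset.univ v i =
    Polynomial.C c * Lagrange.nodal Finset.univ v := by
  refine ⟨∏ j ∈ Finset.univ.erase i, (v i - v j)⁻¹, ?_⟩
  rw [Lagrange.basis, Lagrange.nodal_eq, ← Finset.mul_prod_erase _ _ (Finset.mem_univ i)]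
  simp only [Lagrange.basisDivisor, Finset.prod_mul_distrib, map_prod]
  ring

theorem y_ff (hy : aeval y (Lagrange.nodal Finset.univ v) = 0) (i : Fin n) : y * ff y v i = v i • ff y v i := by
  obtain ⟨c, hc⟩ := sub_mul_basis v i
  have h1 := congrArg (aeval y) hc
  rw [map_mul, map_mul, hy, mul_zero, map_sub, aeval_X, aeval_C, Algebra.algebraMap_eq_smul_one, sub_mul,
    smul_mul_assoc, one_mul, sub_eq_zero] at h1
  exact h1

theorem aeval_ff (hy : aeval y (Lagrange.nodal Finset.univ v) = 0) (i : Fin n) (g : ℝ[X]) :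
    aeval y g * ff y v i = g.eval (v i) • ff y v i := by
  obtain ⟨h, hh⟩ := X_sub_C_dvd_sub_C_eval (p := g) (a := v i)
  have h1 : g = h * (X - Polynomial.C (v i)) + Polynomial.C (g.eval (v i)) := by linear_combination hh
  have h2 : aeval y g = aeval y h * (y - v i • (1 : M)) + g.eval (v i) • (1 : M) := by
    conv_lhs => rw [h1]
    simp only [map_add, map_mul, map_sub, aeval_X, aeval_C, Algebra.algebraMap_eq_smul_one]
  rw [h2, add_mul, mul_assoc, sub_mul, smul_mul_assoc, one_mul, y_ff hy, sub_self, mul_zero, zero_add,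
    smul_mul_assoc, one_mul]

theorem ff_sq (hy : aeval y (Lagrange.nodal Finset.univ v) = 0) (hv : Function.Injective v) (i : Fin n) :
    ff y v i * ff y v i = ff y v i := by
  have h := aeval_ff hy i (Lagrange.basis Finset.univ v i)
  rw [Lagrange.eval_basis_self hv.injOn (Finset.mem_univ i), one_smul] at h
  exact h

theorem sum_ff (hv : Function.Injective v) (hn : 0 < n) : ∑ i, ff y v i = 1 := by
  unfold ff
  rw [← map_sum, Lagrange.sum_basis hv.injOn ⟨⟨0, hn⟩, Finset.mem_univ _⟩, map_one]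

theorem comm_ff {z : M} (h : z * y = y * z) (i : Fin n) : z * ff y v i = ff y v i * z := by
  unfold ff
  generalize Lagrange.basis Finset.univ v i = g
  induction g using Polynomial.induction_on' with
  | add f g hf hg => rw [map_add, mul_add, add_mul, hf, hg]
  | monomial k c =>
    rw [aeval_monomial, Algebra.algebraMap_eq_smul_one, smul_mul_assoc, one_mul, mul_smul_comm, smul_mul_assoc]
    congr 1
    exact (show Commute z y from h).pow_right k

end alg

/-! ### The traces -/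

section trace

variable {X : Type*} [Fintype X] [DecidableEq X] {A B : Matrix X X ℝ} {a b : ℝ}

/-- **the traces** -/
theorem traces (hA : A * A = (a - 1) • A + a • (1 : Matrix X X ℝ)) (hB : B * B = (b - 1) • B + b • (1 : Matrix X X ℝ))
    (hAB : ∀ k, 1 ≤ k → k ≤ 4 → ((A * B) ^ k).trace = 0) (hAt : A.trace = 0) (hBt : B.trace = 0)
    {N : ℝ} (hN : (1 : Matrix X X ℝ).trace = N) (y : Matrix X X ℝ) (hy : y = Y A B a b) :
    y.trace + (y * A).trace = (-b + 1) * N ∧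
    (y ^ 2).trace + (y ^ 2 * A).trace = (a * b + b ^ 2 - b + 1) * N ∧
    (y ^ 3).trace + (y ^ 3 * A).trace = (-2 * a * b ^ 2 - b ^ 3 + 2 * a * b + b ^ 2 - b + 1) * N ∧
    (y ^ 4).trace + (y ^ 4 * A).trace = (2 * a ^ 2 * b ^ 2 + 3 * a * b ^ 3 + b ^ 4 - 3 * a * b ^ 2 - b ^ 3 + 3 * a * b + b ^ 2 - b + 1) * N := by
  have hcA : A * y = y * A := by rw [hy]; exact (Y_mul_A hA).symm
  have hcB : B * y = y * B := by rw [hy]; exact (Y_mul_B hB).symm
  have hkA : ∀ k : ℕ, A * y ^ k = y ^ k * A := fun k => (show Commute A y from hcA).pow_right k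
  have hkB : ∀ k : ℕ, B * y ^ k = y ^ k * B := fun k => (show Commute B y from hcB).pow_right k
  have t : ∀ k : ℕ, (y ^ (k + 1)).trace = 2 * (y ^ k * (A * B)).trace - (b - 1) * (y ^ k * A).trace -
      (a - 1) * (y ^ k * B).trace + (a - 1) * (b - 1) * (y ^ k).trace := by
    intro k
    have := tr_Y (A := A) (B := B) (a := a) (b := b) (hkA k)
    rw [← hy, ← pow_succ] at this
    exact this
  have s : ∀ k : ℕ, (y ^ (k + 1) * A).trace = (a - 1) * (y ^ k * (A * B)).trace + 2 * a * (y ^ k * B).trace -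
      a * (b - 1) * (y ^ k).trace := by
    intro k
    have := tr_YA (B := B) (a := a) (b := b) hA (hkA k)
    rw [← hy, ← pow_succ] at this
    exact this
  have u : ∀ k : ℕ, (y ^ (k + 1) * B).trace = (b - 1) * (y ^ k * (A * B)).trace + 2 * b * (y ^ k * A).trace -
      b * (a - 1) * (y ^ k).trace := by
    intro k
    have := tr_YB (A := A) (a := a) (b := b) hB (hkA k) (hkB k)
    rw [← hy, ← pow_succ] at this
    exact this
  have v : ∀ k j : ℕ, (y ^ (k + 1) * (A * B) ^ (j + 1)).trace = (y ^ k * (A * B) ^ (j + 2)).trace +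
      a * b * (y ^ k * (A * B) ^ j).trace := by
    intro k j
    have h1 : y * (A * B) ^ (j + 1) = (A * B) ^ (j + 2) + (a * b) • (A * B) ^ j := by
      have := Y_mul_AB hA hB
      rw [← hy] at this
      rw [pow_succ', ← mul_assoc, this, add_mul, smul_mul_assoc, one_mul, pow_succ', pow_succ', mul_assoc]
    rw [pow_succ, mul_assoc, h1, mul_add, Matrix.trace_add, mul_smul_comm, Matrix.trace_smul, smul_eq_mul]
  have v01 := hAB 1 (by norm_num) (by norm_num)
  have v02 := hAB 2 (by norm_num) (by norm_num)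
  have v03 := hAB 3 (by norm_num) (by norm_num)
  have v04 := hAB 4 (by norm_num) (by norm_num)
  have v11 := v 0 0
  have v21 := v 1 0
  have v31 := v 2 0
  have v12 := v 0 1
  have v13 := v 0 2
  have v22 := v 1 1
  have t1 := t 0
  have t2 := t 1
  have t3 := t 2
  have t4 := t 3
  have s1 := s 0
  have s2 := s 1
  have s3 := s 2
  have s4 := s 3
  have u1 := u 0
  have u2 := u 1
  have u3 := u 2
  clear t s u v
  simp only [zero_add, pow_zero, one_mul, pow_one, mul_one, Nat.reduceAdd, hN, hAt, hBt] at *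
  rw [v02] at v11
  rw [v01] at t1 s1 u1
  rw [v03, v01] at v12
  rw [v04, v02] at v13
  rw [v11, s1, u1, t1] at t2
  rw [v11, u1, t1] at s2
  rw [v11, s1, t1] at u2
  rw [v12, t1] at v21
  rw [v21, s2, u2, t2] at t3
  rw [v21, u2, t2] at s3
  rw [v21, s2, t2] at u3
  rw [v13, v11] at v22
  rw [v22, t2] at v31
  rw [v31, s3, u3, t3] at t4
  rw [v31, u3, t3] at s4
  refine ⟨?_, ?_, ?_, ?_⟩
  · rw [t1, s1]; ring
  · rw [t2, s2]; ring
  · rw [t3, s3]; ring
  · rw [t4, s4]; ring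

end trace

/-! ### The traces of the Lagrange idempotents -/

section fftrace

open Polynomial

theorem aeval_four {M : Type*} [Ring M] [Algebra ℝ M] (y : M) (x₁ x₂ x₃ x₄ c₁ c₂ c₃ c₄ : ℝ) :
    aeval y ((Polynomial.C c₁ * (X - Polynomial.C x₁)) * ((Polynomial.C c₂ * (X - Polynomial.C x₂)) *
      ((Polynomial.C c₃ * (X - Polynomial.C x₃)) * (Polynomial.C c₄ * (X - Polynomial.C x₄))))) =
      (c₁ * c₂ * c₃ * c₄) • (y ^ 4 - (x₁ + x₂ + x₃ + x₄) • y ^ 3 +
        (x₁ * x₂ + x₁ * x₃ + x₁ * x₄ + x₂ * x₃ + x₂ * x₄ + x₃ * x₄) • y ^ 2 -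
        (x₁ * x₂ * x₃ + x₁ * x₂ * x₄ + x₁ * x₃ * x₄ + x₂ * x₃ * x₄) • y + (x₁ * x₂ * x₃ * x₄) • (1 : M)) := by
  have h1 : ((Polynomial.C c₁ * (X - Polynomial.C x₁)) * ((Polynomial.C c₂ * (X - Polynomial.C x₂)) *
      ((Polynomial.C c₃ * (X - Polynomial.C x₃)) * (Polynomial.C c₄ * (X - Polynomial.C x₄)))) : ℝ[X]) =
      Polynomial.C (c₁ * c₂ * c₃ * c₄) * (X ^ 4 - Polynomial.C (x₁ + x₂ + x₃ + x₄) * X ^ 3 +
        Polynomial.C (x₁ * x₂ + x₁ * x₃ + x₁ * x₄ + x₂ * x₃ + x₂ * x₄ + x₃ * x₄) * X ^ 2 -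
        Polynomial.C (x₁ * x₂ * x₃ + x₁ * x₂ * x₄ + x₁ * x₃ * x₄ + x₂ * x₃ * x₄) * X +
        Polynomial.C (x₁ * x₂ * x₃ * x₄)) := by
    simp only [C_mul, C_add]
    ring
  rw [h1, map_mul, map_add, map_sub, map_add (aeval y) (_ - _), map_sub, map_mul (aeval y) (Polynomial.C _),
    map_mul (aeval y) (Polynomial.C _), map_mul (aeval y) (Polynomial.C _)]
  simp only [map_pow, aeval_X, aeval_C, Algebra.algebraMap_eq_smul_one, smul_mul_assoc, one_mul]

variable {X₀ : Type*} [Fintype X₀] [DecidableEq X₀] {A y : Matrix X₀ X₀ ℝ}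

theorem trace_ff {N m₁ m₂ m₃ m₄ : ℝ} (h0 : (1 : Matrix X₀ X₀ ℝ).trace + A.trace = N)
    (h1 : y.trace + (y * A).trace = m₁ * N) (h2 : (y ^ 2).trace + (y ^ 2 * A).trace = m₂ * N)
    (h3 : (y ^ 3).trace + (y ^ 3 * A).trace = m₃ * N) (h4 : (y ^ 4).trace + (y ^ 4 * A).trace = m₄ * N)
    (v : Fin 5 → ℝ) (hv : Function.Injective v) (i j k l m : Fin 5) (he : Finset.univ.erase i = {j, k, l, m})
    (hj : j ∉ ({k, l, m} : Finset (Fin 5))) (hk : k ∉ ({l, m} : Finset (Fin 5))) (hl : l ≠ m) {x₀ x₁ x₂ x₃ x₄ : ℝ}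
    (e0 : v i = x₀) (e1 : v j = x₁) (e2 : v k = x₂) (e3 : v l = x₃) (e4 : v m = x₄) {d : ℝ}
    (hd : (m₄ - (x₁ + x₂ + x₃ + x₄) * m₃ + (x₁ * x₂ + x₁ * x₃ + x₁ * x₄ + x₂ * x₃ + x₂ * x₄ + x₃ * x₄) * m₂ -
      (x₁ * x₂ * x₃ + x₁ * x₂ * x₄ + x₁ * x₃ * x₄ + x₂ * x₃ * x₄) * m₁ + x₁ * x₂ * x₃ * x₄) * N =
      (x₀ - x₁) * (x₀ - x₂) * (x₀ - x₃) * (x₀ - x₄) * d) :
    (ff y v i).trace + (ff y v i * A).trace = d := by
  have hne : ∀ z ∈ ({j, k, l, m} : Finset (Fin 5)), v i - v z ≠ 0 := by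
    intro z hz
    rw [← he, Finset.mem_erase] at hz
    exact sub_ne_zero.2 fun h => hz.1 (hv h).symm
  have n1 := hne j (by simp)
  have n2 := hne k (by simp)
  have n3 := hne l (by simp)
  have n4 := hne m (by simp)
  rw [e0] at n1 n2 n3 n4
  rw [e1] at n1
  rw [e2] at n2
  rw [e3] at n3
  rw [e4] at n4
  have hff : ff y v i = ((x₀ - x₁)⁻¹ * (x₀ - x₂)⁻¹ * (x₀ - x₃)⁻¹ * (x₀ - x₄)⁻¹) • (y ^ 4 - (x₁ + x₂ + x₃ + x₄) • y ^ 3 +
        (x₁ * x₂ + x₁ * x₃ + x₁ * x₄ + x₂ * x₃ + x₂ * x₄ + x₃ * x₄) • y ^ 2 -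
        (x₁ * x₂ * x₃ + x₁ * x₂ * x₄ + x₁ * x₃ * x₄ + x₂ * x₃ * x₄) • y + (x₁ * x₂ * x₃ * x₄) • 1) := by
    rw [← aeval_four]
    unfold ff
    rw [Lagrange.basis, he, Finset.prod_insert hj, Finset.prod_insert hk, Finset.prod_insert (by simpa using hl),
      Finset.prod_singleton]
    simp only [Lagrange.basisDivisor, e0, e1, e2, e3, e4]
  have h5 : (ff y v i).trace + (ff y v i * A).trace =
      ((x₀ - x₁)⁻¹ * (x₀ - x₂)⁻¹ * (x₀ - x₃)⁻¹ * (x₀ - x₄)⁻¹) *
      ((m₄ - (x₁ + x₂ + x₃ + x₄) * m₃ + (x₁ * x₂ + x₁ * x₃ + x₁ * x₄ + x₂ * x₃ + x₂ * x₄ + x₃ * x₄) * m₂ -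
      (x₁ * x₂ * x₃ + x₁ * x₂ * x₄ + x₁ * x₃ * x₄ + x₂ * x₃ * x₄) * m₁ + x₁ * x₂ * x₃ * x₄) * N) := by
    rw [hff]
    simp only [add_mul, sub_mul, smul_mul_assoc, one_mul, Matrix.trace_add, Matrix.trace_sub, Matrix.trace_smul,
      smul_eq_mul]
    linear_combination ((x₀ - x₁)⁻¹ * (x₀ - x₂)⁻¹ * (x₀ - x₃)⁻¹ * (x₀ - x₄)⁻¹) * (h4 - (x₁ + x₂ + x₃ + x₄) * h3 +
      (x₁ * x₂ + x₁ * x₃ + x₁ * x₄ + x₂ * x₃ + x₂ * x₄ + x₃ * x₄) * h2 -
      (x₁ * x₂ * x₃ + x₁ * x₂ * x₄ + x₁ * x₃ * x₄ + x₂ * x₃ * x₄) * h1 + x₁ * x₂ * x₃ * x₄ * h0)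
  rw [h5, hd]
  field_simp

end fftrace

/-! ### The numbers -/

section numbers

/-- the degrees, `w = 2 ^ m`, `Q = 2 w²`, `r = 2 w` -/
noncomputable def dd (w : ℝ) : Fin 5 → ℝ :=
  ![1, 2 * w ^ 2 * (4 * w ^ 4 - 2 * w ^ 2 + 1) * (16 * w ^ 8 - 4 * w ^ 4 + 1),
    w ^ 4 * (2 * w ^ 2 + 1) ^ 2 * (2 * w ^ 2 - 2 * w + 1) ^ 2 * (4 * w ^ 4 - 2 * w ^ 2 + 1) *
      (4 * w ^ 4 + 4 * w ^ 3 + 2 * w ^ 2 + 2 * w + 1),
    w ^ 4 * (2 * w ^ 2 + 1) ^ 2 * (2 * w ^ 2 + 2 * w + 1) ^ 2 * (4 * w ^ 4 - 2 * w ^ 2 + 1) *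
      (4 * w ^ 4 - 4 * w ^ 3 + 2 * w ^ 2 - 2 * w + 1),
    2 * w ^ 4 * (4 * w ^ 4 + 1) ^ 2 * (16 * w ^ 8 - 4 * w ^ 4 + 1)]

theorem vv_inj {w : ℝ} (hw : 2 ≤ w) : Function.Injective (vv (4 * w ^ 4) (2 * w ^ 2) (4 * w ^ 3)) := by
  have h1 : 0 < w ^ 3 := by positivity
  have h2 : w ^ 3 < w ^ 4 := by nlinarith only [hw, h1]
  have h3 : w ^ 4 < w ^ 6 := by
    have h5 : (4 : ℝ) ≤ w ^ 2 := by nlinarith only [hw]
    have h6 : 0 < w ^ 4 := by positivity
    nlinarith only [hw, h2, _root_.sq_nonneg (w : ℝ)]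
  have h4 : 0 < w ^ 2 := by positivity
  have e : 4 * w ^ 4 * (2 * w ^ 2) = 8 * w ^ 6 := by ring
  intro i j hij
  fin_cases i <;> fin_cases j <;> simp only [vv, Fin.zero_eta, Fin.mk_one, Fin.reduceFinMk, Matrix.cons_val_zero, Matrix.cons_val_one, Matrix.cons_val, e] at hij ⊢ <;> linarith

variable {X₀ : Type*} [Fintype X₀] [DecidableEq X₀] {A B : Matrix X₀ X₀ ℝ}

theorem trace_dd {w : ℝ} (hw : 2 ≤ w) (hA : A * A = (4 * w ^ 4 - 1) • A + (4 * w ^ 4) • (1 : Matrix X₀ X₀ ℝ))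
    (hB : B * B = (2 * w ^ 2 - 1) • B + (2 * w ^ 2) • (1 : Matrix X₀ X₀ ℝ))
    (hAB : ∀ k, 1 ≤ k → k ≤ 4 → ((A * B) ^ k).trace = 0) (hAt : A.trace = 0) (hBt : B.trace = 0)
    (hN : (1 : Matrix X₀ X₀ ℝ).trace = (1 + 2 * w ^ 2) * (1 + 4 * w ^ 4) * (1 + 8 * w ^ 6) * (1 + 64 * w ^ 12))
    (i : Fin 5) :
    (ff (Y A B (4 * w ^ 4) (2 * w ^ 2)) (vv (4 * w ^ 4) (2 * w ^ 2) (4 * w ^ 3)) i).trace +
      (ff (Y A B (4 * w ^ 4) (2 * w ^ 2)) (vv (4 * w ^ 4) (2 * w ^ 2) (4 * w ^ 3)) i * A).trace =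
      (1 + 4 * w ^ 4) * dd w i := by
  obtain ⟨h1, h2, h3, h4⟩ := traces hA hB hAB hAt hBt hN _ rfl
  have h0 : (1 : Matrix X₀ X₀ ℝ).trace + A.trace =
      (1 + 2 * w ^ 2) * (1 + 4 * w ^ 4) * (1 + 8 * w ^ 6) * (1 + 64 * w ^ 12) := by rw [hN, hAt, add_zero]
  have hinj := vv_inj hw
  fin_cases i
  · refine trace_ff h0 h1 h2 h3 h4 _ hinj 0 1 2 3 4 (by decide) (by decide) (by decide) (by decide)
      (x₀ := 4 * w ^ 4 * (2 * w ^ 2) + 1) (x₁ := -(4 * w ^ 4 + 2 * w ^ 2)) (x₂ := 4 * w ^ 3)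
      (x₃ := -(4 * w ^ 3)) (x₄ := 0) rfl rfl rfl rfl rfl ?_
    have e1 : dd w 0 = 1 := rfl
    change _ = _ * ((1 + 4 * w ^ 4) * dd w 0)
    rw [e1]
    ring
  · refine trace_ff h0 h1 h2 h3 h4 _ hinj 1 0 2 3 4 (by decide) (by decide) (by decide) (by decide)
      (x₀ := -(4 * w ^ 4 + 2 * w ^ 2)) (x₁ := 4 * w ^ 4 * (2 * w ^ 2) + 1) (x₂ := 4 * w ^ 3)
      (x₃ := -(4 * w ^ 3)) (x₄ := 0) rfl rfl rfl rfl rfl ?_
    simp only [dd, Fin.mk_one, Matrix.cons_val_one, Matrix.cons_val_zero]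
    ring
  · refine trace_ff h0 h1 h2 h3 h4 _ hinj 2 0 1 3 4 (by decide) (by decide) (by decide) (by decide)
      (x₀ := 4 * w ^ 3) (x₁ := 4 * w ^ 4 * (2 * w ^ 2) + 1) (x₂ := -(4 * w ^ 4 + 2 * w ^ 2))
      (x₃ := -(4 * w ^ 3)) (x₄ := 0) rfl rfl rfl rfl rfl ?_
    simp only [dd, Fin.reduceFinMk, Matrix.cons_val]
    ring
  · refine trace_ff h0 h1 h2 h3 h4 _ hinj 3 0 1 2 4 (by decide) (by decide) (by decide) (by decide)
      (x₀ := -(4 * w ^ 3)) (x₁ := 4 * w ^ 4 * (2 * w ^ 2) + 1) (x₂ := -(4 * w ^ 4 + 2 * w ^ 2))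
      (x₃ := 4 * w ^ 3) (x₄ := 0) rfl rfl rfl rfl rfl ?_
    simp only [dd, Fin.reduceFinMk, Matrix.cons_val]
    ring
  · refine trace_ff h0 h1 h2 h3 h4 _ hinj 4 0 1 2 3 (by decide) (by decide) (by decide) (by decide)
      (x₀ := 0) (x₁ := 4 * w ^ 4 * (2 * w ^ 2) + 1) (x₂ := -(4 * w ^ 4 + 2 * w ^ 2))
      (x₃ := 4 * w ^ 3) (x₄ := -(4 * w ^ 3)) rfl rfl rfl rfl rfl ?_
    simp only [dd, Fin.reduceFinMk, Matrix.cons_val]
    ring

theorem dd_mono {w : ℝ} (hw : 2 ≤ w) : dd w 0 < dd w 1 ∧ dd w 1 < dd w 2 ∧ dd w 2 < dd w 3 ∧ dd w 3 < dd w 4 := by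
  obtain ⟨z, hz, rfl⟩ : ∃ z, 0 ≤ z ∧ w = z + 2 := ⟨w - 2, by linarith, by ring⟩
  refine ⟨?_, ?_, ?_, ?_⟩
  all_goals
    rw [← sub_pos]
    simp only [dd, Matrix.cons_val_zero, Matrix.cons_val_one, Matrix.cons_val]
    ring_nf
    (clear * - hz; positivity)

end numbers

theorem inv_aeval {y : Matrix (G ⧸ P.B) (G ⧸ P.B) ℝ} (hy : Inv G y) (g : Polynomial ℝ) :
    Inv G (Polynomial.aeval y g) := by
  have hk : ∀ k : ℕ, Inv G (y ^ k) := by
    intro k
    induction k with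
    | zero => rw [pow_zero]; exact Inv.one
    | succ k ih => rw [pow_succ]; exact ih.mul hy
  induction g using Polynomial.induction_on' with
  | add f g hf hg => rw [map_add]; exact hf.add hg
  | monomial k c =>
    rw [Polynomial.aeval_monomial, Algebra.algebraMap_eq_smul_one, smul_mul_assoc, one_mul]
    exact Inv.smul _ (hk k)

/-- **The decomposition of the permutation character**, degrees as traces -/
theorem decomp {s t : G} (hS : P.S = {s, t}) (hst : s ≠ t) (h16 : ((P.B ⊓ P.N).subgroupOf P.N).index = 16)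
    (hs : s ∈ P.S) {σ : ℝ} (hσ : σ ^ 2 = 2 * ((q P s : ℝ) * q P t)) (hv : Function.Injective (vv (q P s) (q P t) σ))
    {y : Matrix (G ⧸ P.B) (G ⧸ P.B) ℝ} (hy : y = Y (T P s) (T P t) (q P s) (q P t)) (d : Fin 5 → ℝ) (hd : ∀ i, 0 < d i)
    (htr : ∀ i, (ff y (vv (q P s) (q P t) σ) i).trace + (ff y (vv (q P s) (q P t) σ) i * T P s).trace =
      (1 + q P s) * d i) :
    ∃ χ : Fin 5 → IrrCharacter G, (∀ g : G, (Nat.card (MulAction.fixedBy (G ⧸ par P hs) g) : ℂ) = ∑ i, (χ i : G → ℂ) g) ∧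
      ∀ i, (charDegree (χ i : G → ℂ) : ℝ) = d i := by
  have ht : t ∈ P.S := by rw [hS]; simp
  obtain ⟨hbr, -⟩ := hecke_data hS hst (n := 8) h16
  have hbr' : (T P s * T P t) ^ 4 = (T P t * T P s) ^ 4 := by
    rw [show (8 : ℕ) = 2 * 4 from rfl, alt_two_mul, alt_two_mul] at hbr
    exact hbr
  have hA := T_sq (P := P) hs
  have hB := T_sq (P := P) ht
  have hyA : T P s * y = y * T P s := by rw [hy]; exact (Y_mul_A hA).symm
  have hnod := aeval_nodal hA hB hbr' hσ
  rw [← hy] at hnod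
  have hyinv : Inv G y := by rw [hy]; exact inv_Y s t _ _
  have ha : (0 : ℝ) < 1 + (q P s : ℝ) := by (clear * -; positivity)
  have key : ∀ i, _ := fun i => char_of_central hS (p := ff y (vv (q P s) (q P t) σ) i)
    (θ := vv (q P s) (q P t) σ i) (inv_aeval hyinv _) (comm_ff hyA i) (ff_sq hnod hv i)
    (by rw [← hy]; exact y_ff hnod i) (by rw [htr]; exact (mul_pos ha (hd i)).ne')
  refine ⟨fun i => ⟨_, (key i).1⟩, fun g => ?_, fun i => ?_⟩
  · have h1 := sum_fix hs g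
    have h2 : ∑ i, ee (T P s) (ff y (vv (q P s) (q P t) σ) i) (q P s) =
        (1 + (q P s : ℝ))⁻¹ • ((1 : Matrix (G ⧸ P.B) (G ⧸ P.B) ℝ) + T P s) := by
      simp only [ee_def]
      rw [← Finset.smul_sum, ← Finset.sum_mul, sum_ff hv (by norm_num), one_mul]
    rw [← h2] at h1
    have h3 : (Nat.card (MulAction.fixedBy (G ⧸ par P hs) g) : ℝ) =
        ∑ i, ∑ x, ee (T P s) (ff y (vv (q P s) (q P t) σ) i) (q P s) x (g • x) := by
      rw [← h1, Finset.sum_comm]
      refine Finset.sum_congr rfl fun x _ => ?_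
      rw [Matrix.sum_apply]
    have h4 := congrArg (Complex.ofReal) h3
    rw [Complex.ofReal_natCast, Complex.ofReal_sum] at h4
    exact h4
  · have h1 := (key i).2
    rw [htr, mul_comm] at h1
    have h2 := mul_left_cancel₀ ha.ne' h1
    have h3 := Blocks.Basic.irr_one_eq_charDegree (key i).1
    have h4 : ∑ x, ee (T P s) (ff y (vv (q P s) (q P t) σ) i) (q P s) x ((1 : G) • x) =
        (ee (T P s) (ff y (vv (q P s) (q P t) σ) i) (q P s)).trace := by
      rw [Matrix.trace]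
      refine Finset.sum_congr rfl fun x _ => ?_
      rw [one_smul, Matrix.diag_apply]
    rw [h4, h2] at h3
    exact_mod_cast h3.symm

/-! ### The permutation character -/

/-- **The rank five permutation character**, abstract form -/
theorem mf_of_oct {G : Type u} [Group G] [Finite G] {P : BNPair G} {s t : G} (hS : P.S = {s, t}) (hst : s ≠ t)
    (h16 : ((P.B ⊓ P.N).subgroupOf P.N).index = 16) (hs : s ∈ P.S) {w : ℝ} (hw : 2 ≤ w)
    (hqs : (q P s : ℝ) = 4 * w ^ 4) (hqt : (q P t : ℝ) = 2 * w ^ 2)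
    (hN : (Nat.card (G ⧸ P.B) : ℝ) = (1 + 2 * w ^ 2) * (1 + 4 * w ^ 4) * (1 + 8 * w ^ 6) * (1 + 64 * w ^ 12)) :
    ∃ χ : Fin 5 → IrrCharacter G, Cfsg.Agent.H329.PQ.MF G (G ⧸ par P hs) χ ∧
      ∀ i, (charDegree (χ i : G → ℂ) : ℝ) = dd w i := by
  classical
  have : Fintype (G ⧸ P.B) := Fintype.ofFinite _
  have ht : t ∈ P.S := by rw [hS]; simp
  obtain ⟨-, htr⟩ := hecke_data hS hst (n := 8) h16
  have hA := T_sq (P := P) hs
  have hB := T_sq (P := P) ht
  rw [hqs] at hA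
  rw [hqt] at hB
  have hAB : ∀ k, 1 ≤ k → k ≤ 4 → ((T P s * T P t) ^ k).trace = 0 := by
    intro k h1 h4
    rw [← alt_two_mul]
    exact (htr (2 * k) (by omega) (by omega)).1
  have hAt : (T P s).trace = 0 := by
    have := (htr 1 le_rfl (by norm_num)).1
    rwa [alt_one] at this
  have hBt : (T P t).trace = 0 := by
    have := (htr 1 le_rfl (by norm_num)).2
    rwa [alt_one] at this
  have hN' : (1 : Matrix (G ⧸ P.B) (G ⧸ P.B) ℝ).trace =
      (1 + 2 * w ^ 2) * (1 + 4 * w ^ 4) * (1 + 8 * w ^ 6) * (1 + 64 * w ^ 12) := by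
    rw [Matrix.trace_one, ← Nat.card_eq_fintype_card, hN]
  have hm := dd_mono hw
  have hd : ∀ i, 0 < dd w i := by
    have h0 : dd w 0 = 1 := rfl
    intro i
    fin_cases i
    · show 0 < dd w 0
      linarith only [h0]
    · show 0 < dd w 1
      linarith only [hm, h0]
    · show 0 < dd w 2
      linarith only [hm, h0]
    · show 0 < dd w 3
      linarith only [hm, h0]
    · show 0 < dd w 4
      linarith only [hm, h0]
  have key := decomp hS hst h16 hs (σ := 4 * w ^ 3) (by rw [hqs, hqt]; ring) (by rw [hqs, hqt]; exact vv_inj hw)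
    rfl (dd w) hd (by rw [hqs, hqt]; exact trace_dd hw hA hB hAB hAt hBt hN')
  obtain ⟨χ, h1, h2⟩ := key
  refine ⟨χ, ⟨?_, h1⟩, h2⟩
  have hinj : Function.Injective (dd w) := by
    intro i j hij
    fin_cases i <;> fin_cases j <;> simp only [Fin.zero_eta, Fin.mk_one, Fin.reduceFinMk] at hij ⊢ <;> linarith only [hm, hij]
  intro i j hij
  apply hinj
  rw [← h2, ← h2, hij]

open Cfsg.Lie in
/-- **Part (1) of the row `²F₄(q)`.** -/
theorem exists_mf {K : Type} [Field K] [Fintype K] {m : ℕ} (hm : 1 ≤ m) (hK : Fintype.card K = 2 ^ (2 * m + 1))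
    {Q r : ℤ} (hQ : Q = 2 ^ (2 * m + 1)) (hr : r = 2 ^ (m + 1)) :
    ∃ (P : Subgroup ↥(twistedF4 K (2 ^ m))) (χ : Fin 5 → IrrCharacter ↥(twistedF4 K (2 ^ m))),
      Cfsg.Agent.H329.PQ.MF ↥(twistedF4 K (2 ^ m)) (↥(twistedF4 K (2 ^ m)) ⧸ P) χ ∧
      (P.index : ℤ) = (Q + 1) * (Q ^ 3 + 1) * (Q ^ 6 + 1) ∧
      charDegree (χ 0 : ↥(twistedF4 K (2 ^ m)) → ℂ) = 1 ∧
      (charDegree (χ 1 : ↥(twistedF4 K (2 ^ m)) → ℂ) : ℤ) = Q * (Q ^ 2 - Q + 1) * (Q ^ 4 - Q ^ 2 + 1) ∧
      4 * (charDegree (χ 2 : ↥(twistedF4 K (2 ^ m)) → ℂ) : ℤ) =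
        Q ^ 2 * (Q + 1) ^ 2 * (Q - r + 1) ^ 2 * (Q ^ 2 - Q + 1) * (Q ^ 2 + r * Q + Q + r + 1) ∧
      4 * (charDegree (χ 3 : ↥(twistedF4 K (2 ^ m)) → ℂ) : ℤ) =
        Q ^ 2 * (Q + 1) ^ 2 * (Q + r + 1) ^ 2 * (Q ^ 2 - Q + 1) * (Q ^ 2 - r * Q + Q - r + 1) ∧
      2 * (charDegree (χ 4 : ↥(twistedF4 K (2 ^ m)) → ℂ) : ℤ) = Q ^ 2 * (Q ^ 2 + 1) ^ 2 * (Q ^ 4 - Q ^ 2 + 1) := by
  have : Fact (Nat.Prime 2) := ⟨Nat.prime_two⟩
  have hcard := Cfsg.Agent.S1068.result hK
  have hfin : Finite ↥(twistedF4 K (2 ^ m)) := by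
    refine Nat.finite_of_card_ne_zero ?_
    rw [hcard]
    have h1 : 1 < 2 ^ (2 * m + 1) := Nat.one_lt_two_pow (by omega)
    have h2 : 0 < 2 ^ (2 * m + 1) - 1 := by omega
    have h3 : 0 < (2 ^ (2 * m + 1)) ^ 4 - 1 := by
      have := Nat.one_lt_pow (n := 4) (by norm_num) h1
      omega
    (clear * - h2 h3; positivity)
  obtain ⟨P, UE, s, t, V, V', hsp, hS, hrel, nV, nV', iV, iV', cU, cT⟩ :=
    Cfsg.Agent.H740.Eight.TwFTwo.exists_pair (K := K) (m := m) hK
  have hsS : s ∈ P.S := by rw [hS]; simp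
  have htS : t ∈ P.S := by rw [hS]; simp
  have hS' : P.S = {t, s} := by rw [hS, Set.pair_comm]
  have hqs := Cfsg.Agent.H740.Eight.HeckeDeg.q_eq hsp hsS nV
  have hqt := Cfsg.Agent.H740.Eight.HeckeDeg.q_eq hsp htS nV'
  rw [iV] at hqs
  rw [iV'] at hqt
  set n : ℕ := 2 ^ (2 * m + 1) with hn
  have hn1 : 8 ≤ n := by
    rw [hn]
    calc 8 = 2 ^ 3 := by norm_num
      _ ≤ 2 ^ (2 * m + 1) := Nat.pow_le_pow_right (by norm_num) (by omega)
  have hst : t ≠ s := by
    rintro rfl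
    rw [hqs] at hqt
    nlinarith only [hqt, hn1]
  have hB := Cfsg.Agent.H740.Eight.TwFTwo.card_B hsp
  rw [cU, cT] at hB
  have hN : Nat.card (↥(twistedF4 K (2 ^ m)) ⧸ P.B) = (1 + n) * (1 + n ^ 2) * (1 + n ^ 3) * (1 + n ^ 6) := by
    have h1 := P.B.card_mul_index
    rw [hB, hcard] at h1
    have h3 : P.B.index = (1 + n) * (1 + n ^ 2) * (1 + n ^ 3) * (1 + n ^ 6) := by
      obtain ⟨k, hk⟩ : ∃ k, n = k + 1 := ⟨n - 1, by omega⟩
      have h5 : n ^ 4 - 1 = k * ((1 + n) * (1 + n ^ 2)) := by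
        have : k * ((1 + n) * (1 + n ^ 2)) + 1 = n ^ 4 := by rw [hk]; ring
        omega
      have h6 : n - 1 = k := by omega
      rw [h5, h6] at h1
      have h7 : 0 < n ^ 12 * k ^ 2 := by
        have : 0 < k := by omega
        (clear * - this; positivity)
      refine Nat.eq_of_mul_eq_mul_left h7 ?_
      rw [h1]
      ring
    rw [← h3, Subgroup.index_eq_card]
  set w : ℝ := 2 ^ m with hw
  have hnw : (n : ℝ) = 2 * w ^ 2 := by
    rw [hn, hw]
    push_cast
    rw [← pow_mul, pow_succ, mul_comm m 2]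
    ring
  have hw2 : 2 ≤ w := by
    rw [hw]
    calc (2 : ℝ) = 2 ^ 1 := by norm_num
      _ ≤ 2 ^ m := pow_le_pow_right₀ (by norm_num) hm
  obtain ⟨χ, h1, h2⟩ := mf_of_oct (P := P) (s := t) (t := s) hS' hst hrel htS hw2
    (by rw [hqt]; push_cast; rw [hnw]; ring) (by rw [hqs, hnw])
    (by rw [hN]; push_cast; rw [hnw]; ring)
  have hQw : ((Q : ℤ) : ℝ) = 2 * w ^ 2 := by
    rw [← hnw, hQ, hn]
    push_cast
    rfl
  have hrw : ((r : ℤ) : ℝ) = 2 * w := by
    rw [hr, hw]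
    push_cast
    ring
  have hft : Fintype (↥(twistedF4 K (2 ^ m)) ⧸ P.B) := Fintype.ofFinite _
  have hidx := index_par (P := P) htS
  rw [hqt, hN] at hidx
  refine ⟨par P htS, χ, h1, ?_, ?_, ?_, ?_, ?_, ?_⟩
  · have h3 : (par P htS).index = (n + 1) * (n ^ 3 + 1) * (n ^ 6 + 1) := by
      have h4 : 0 < 1 + n ^ 2 := by positivity
      refine Nat.eq_of_mul_eq_mul_right h4 ?_
      rw [hidx]
      ring
    rw [h3, hQ, hn]
    push_cast
    ring
  · have h3 := h2 0
    have h4 : dd w 0 = 1 := rfl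
    rw [h4] at h3
    exact_mod_cast h3
  · have h3 := h2 1
    simp only [dd, Matrix.cons_val_zero, Matrix.cons_val_one, Matrix.cons_val] at h3
    have h4 : ((charDegree (χ 1 : ↥(twistedF4 K (2 ^ m)) → ℂ) : ℤ) : ℝ) =
        ((Q * (Q ^ 2 - Q + 1) * (Q ^ 4 - Q ^ 2 + 1) : ℤ) : ℝ) := by
      push_cast
      rw [hQw, h3]
      ring
    exact_mod_cast h4
  · have h3 := h2 2
    simp only [dd, Matrix.cons_val_zero, Matrix.cons_val_one, Matrix.cons_val] at h3
    have h4 : ((4 * (charDegree (χ 2 : ↥(twistedF4 K (2 ^ m)) → ℂ) : ℤ) : ℤ) : ℝ) =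
        ((Q ^ 2 * (Q + 1) ^ 2 * (Q - r + 1) ^ 2 * (Q ^ 2 - Q + 1) * (Q ^ 2 + r * Q + Q + r + 1) : ℤ) : ℝ) := by
      push_cast
      rw [hQw, hrw, h3]
      ring
    exact_mod_cast h4
  · have h3 := h2 3
    simp only [dd, Matrix.cons_val_zero, Matrix.cons_val_one, Matrix.cons_val] at h3
    have h4 : ((4 * (charDegree (χ 3 : ↥(twistedF4 K (2 ^ m)) → ℂ) : ℤ) : ℤ) : ℝ) =
        ((Q ^ 2 * (Q + 1) ^ 2 * (Q + r + 1) ^ 2 * (Q ^ 2 - Q + 1) * (Q ^ 2 - r * Q + Q - r + 1) : ℤ) : ℝ) := by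
      push_cast
      rw [hQw, hrw, h3]
      ring
    exact_mod_cast h4
  · have h3 := h2 4
    simp only [dd, Matrix.cons_val_zero, Matrix.cons_val_one, Matrix.cons_val] at h3
    have h4 : ((2 * (charDegree (χ 4 : ↥(twistedF4 K (2 ^ m)) → ℂ) : ℤ) : ℤ) : ℝ) =
        ((Q ^ 2 * (Q ^ 2 + 1) ^ 2 * (Q ^ 4 - Q ^ 2 + 1) : ℤ) : ℝ) := by
      push_cast
      rw [hQw, h3]
      ring
    exact_mod_cast h4

end Cfsg.Agent.H638.PQ.TwFMF

private theorem dce_e6549223265b : _root_.True := by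
  try have : _root_.True := by simp only [_root_.Cfsg.Agent.H638.PQ.TwFMF.vv.eq_1]
  try have : _root_.True := by simp only [_root_.Cfsg.Agent.H638.PQ.TwFMF.par.congr_simp]
  try have : _root_.True := by simp only [_root_.Cfsg.Agent.H638.PQ.TwFMF.dd.eq_1]
  exact _root_.True.intro
end

-- part: H775/PQL/Clif
section
set_option linter.all false
open scoped Cfsg.Agent.FastGrp

/-!
# S4612, row of `PSL_n`, task D2: the linear test with Clifford's theorem (helper775)

* `sum_comp` : the sum of an inflated function over the regular elements, central kernel;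
* `root_eq_one` : roots of unity of order prime to `p` congruent to 1;
* `hom_not_mem` : linear characters outside the principal block;
* `sum_res` : the sum of the restriction of an induced character over the regular elements of a normal subgroup;
* `clifford_sum` : Clifford's theorem for these sums;
* `clifford_test`.
-/

set_option autoImplicit false
set_option linter.unusedSectionVars false

open Cfsg

namespace Cfsg.Agent.H775.PQL

open Cfsg.Agent.H317.PQ Cfsg.Agent.H766.PQ Cfsg.Agent.Blocks.Basic Cfsg.Agent.Blocks.Local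
open Cfsg.Agent.Characters.Core Cfsg.Agent.OddOrderCharacters.Clifford
open scoped ComplexConjugate

universe u

/-! ### roots of unity -/

theorem root_eq_one {p q : ℕ} (hp : p.Prime) (hq : q.Prime) (hpq : p ≠ q) {M : Ideal AlgInt} (hM : IsPModular p M)
    (k : ℕ) : ∀ {ζ : ℂ}, ζ ^ q ^ k = 1 → MemLocalIdeal M (1 - ζ) → ζ = 1 := by
  have hMp : M.IsPrime := isPrime_of_isPModular hM
  induction k with
  | zero => intro ζ h _; simpa using h
  | succ k ih =>
    intro ζ h hm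
    have hint : IsIntegral ℤ ζ := IsIntegral.of_pow (pow_pos hq.pos (k + 1)) (by rw [h]; exact isIntegral_one)
    have hR : MemLocalRing M ζ := memLocalRing_of_isIntegral hint
    have hi : ∀ i : ℕ, MemLocalIdeal M (1 - ζ ^ i) := by
      intro i
      have h1 := memLocalIdeal_pow_sub_pow (n := i) (memLocalRing_one (M := M)) hR hm
      rwa [one_pow] at h1
    have hq1 : ζ ^ q = 1 := ih (by rw [← pow_mul, ← pow_succ']; exact h) (hi q)
    by_contra hne
    have hsum : ∑ i ∈ Finset.range q, ζ ^ i = 0 := by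
      have h1 := mul_geom_sum ζ q
      rw [hq1, sub_self] at h1
      exact (mul_eq_zero.1 h1).resolve_left (sub_ne_zero.2 hne)
    have h2 : MemLocalIdeal M (∑ i ∈ Finset.range q, (1 - ζ ^ i)) := memLocalIdeal_sum fun i _ => hi i
    rw [Finset.sum_sub_distrib, hsum, sub_zero, Finset.sum_const, Finset.card_range, nsmul_eq_mul, mul_one,
      memLocalIdeal_natCast_iff hM] at h2
    exact hpq ((Nat.prime_dvd_prime_iff_eq hp hq).1 h2)

/-! ### linear characters -/

theorem hom_not_mem {K : Type u} [Group K] [Finite K] {p q : ℕ} (hp : p.Prime) (hq : q.Prime) (hpq : p ≠ q)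
    (θ : K →* ℂˣ) (z : K) {k : ℕ} (hz : θ z ^ q ^ k = 1) (hz1 : θ z ≠ 1)
    (hidx : ¬ p ∣ (Subgroup.centralizer ({z} : Set K)).index) (χ : IrrCharacter K)
    (hχ : ∀ g, (χ : K → ℂ) g = θ g) : χ ∉ B0 p K := by
  intro hmem
  have : Fact p.Prime := ⟨hp⟩
  obtain ⟨M, hM⟩ := Cfsg.Agent.Blocks.ExistsModular.exists_isPModular hp
  have hMp : M.IsPrime := isPrime_of_isPModular hM
  rw [B0_eq hp hM] at hmem
  have h1 := hmem z
  have h2 : centralChar (fun _ : K => (1 : ℂ)) z - centralChar (χ : K → ℂ) z =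
      ((Subgroup.centralizer ({z} : Set K)).index : ℂ) * (1 - ((θ z : ℂˣ) : ℂ)) := by
    unfold centralChar
    rw [hχ, hχ, map_one, Units.val_one]
    ring
  have h3 : ((θ z : ℂˣ) : ℂ) ^ q ^ k = 1 := by rw [← Units.val_pow_eq_pow_val, hz, Units.val_one]
  have hint : IsIntegral ℤ ((θ z : ℂˣ) : ℂ) := IsIntegral.of_pow (pow_pos hq.pos k) (by rw [h3]; exact isIntegral_one)
  have h4 : MemLocalIdeal M (((Subgroup.centralizer ({z} : Set K)).index : ℂ) * (1 - ((θ z : ℂˣ) : ℂ))) := by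
    rw [← h2]; exact h1
  rcases memLocalIdeal_or_of_mul (memLocalRing_natCast _)
    (memLocalRing_sub memLocalRing_one (memLocalRing_of_isIntegral hint)) h4 with h5 | h5
  · exact hidx ((memLocalIdeal_natCast_iff hM _).1 h5)
  · exact hz1 (Units.ext (root_eq_one hp hq hpq hM k h3 h5))

/-! ### the sum over the regular elements of a normal subgroup -/

section res

variable {Γ : Type u} [Group Γ] [Fintype Γ]

theorem sum_res (N : Subgroup Γ) [N.Normal] [Fintype N] (H : Subgroup Γ) [Fintype ↥(H ⊓ N)] (θ : ↥H →* ℂˣ) (r : ℕ) :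
    ∑ n : N with ¬ r ∣ orderOf n, indFun H (fun t => ((θ t : ℂˣ) : ℂ)) n =
      (Nat.card H : ℂ)⁻¹ * ((Fintype.card Γ : ℂ) *
        ∑ h : ↥(H ⊓ N) with ¬ r ∣ orderOf h, ((θ ⟨h, (Subgroup.mem_inf.1 h.2).1⟩ : ℂˣ) : ℂ)) := by
  classical
  set E : Γ → ℂ := extendByZero H (fun t => ((θ t : ℂˣ) : ℂ)) with hE
  have e2 : ∑ n : N with ¬ r ∣ orderOf n, indFun H (fun t => ((θ t : ℂˣ) : ℂ)) n = (Nat.card H : ℂ)⁻¹ *
      ∑ x : Γ, ∑ n : N with ¬ r ∣ orderOf n, E (x⁻¹ * n * x) := by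
    rw [Finset.sum_comm, Finset.mul_sum]
    exact Finset.sum_congr rfl fun g _ => Cfsg.Agent.Characters.Core.indFun_apply H _ _
  have e3 : ∀ x : Γ, ∑ n : N with ¬ r ∣ orderOf n, E (x⁻¹ * n * x) =
      ∑ h : ↥(H ⊓ N) with ¬ r ∣ orderOf h, ((θ ⟨h, (Subgroup.mem_inf.1 h.2).1⟩ : ℂˣ) : ℂ) := by
    intro x
    have e4 : ∑ n : N with ¬ r ∣ orderOf n, E (x⁻¹ * n * x) = ∑ n : N with ¬ r ∣ orderOf n, E n := by
      refine Finset.sum_equiv (MulAut.conjNormal x⁻¹ : MulAut N).toEquiv (fun g => ?_) (fun g _ => ?_)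
      · simp only [Finset.mem_filter, Finset.mem_univ, true_and]
        have : orderOf ((MulAut.conjNormal x⁻¹ : MulAut N) g) = orderOf g := (MulAut.conjNormal x⁻¹ : MulAut N).orderOf_eq g
        rw [show (MulAut.conjNormal x⁻¹ : MulAut N).toEquiv g = (MulAut.conjNormal x⁻¹ : MulAut N) g from rfl, this]
      · have : (((MulAut.conjNormal x⁻¹ : MulAut N) g : N) : Γ) = x⁻¹ * g * x := by
          rw [MulAut.conjNormal_apply, inv_inv]
        exact congrArg E this.symm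
    rw [e4, ← Finset.sum_filter_add_sum_filter_not (Finset.univ.filter fun n : N => ¬ r ∣ orderOf n)
      (fun n : N => (n : Γ) ∈ H)]
    have h0 : ∑ n ∈ Finset.filter (fun n : N => ¬ ((n : Γ) ∈ H)) (Finset.univ.filter fun n : N => ¬ r ∣ orderOf n),
        E (n : Γ) = 0 := by
      refine Finset.sum_eq_zero fun x hx => ?_
      simp only [Finset.mem_filter, Finset.mem_univ, true_and] at hx
      exact ext_apply_not_mem H _ _ hx.2
    rw [h0, add_zero]
    symm
    refine Finset.sum_bij (fun h _ => (⟨h, (Subgroup.mem_inf.1 h.2).2⟩ : N)) (fun h hh => ?_) (fun a _ b _ hab => ?_) (fun k hk => ?_)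
      (fun h _ => ?_)
    · simp only [Finset.mem_filter, Finset.mem_univ, true_and] at hh ⊢
      rw [Subgroup.orderOf_mk, Subgroup.orderOf_coe]
      exact ⟨hh, (Subgroup.mem_inf.1 h.2).1⟩
    · exact Subtype.ext (congrArg (fun n : N => (n : Γ)) hab)
    · simp only [Finset.mem_filter, Finset.mem_univ, true_and] at hk
      refine ⟨⟨k, Subgroup.mem_inf.2 ⟨hk.2, k.2⟩⟩, ?_, rfl⟩
      simp only [Finset.mem_filter, Finset.mem_univ, true_and]
      rw [Subgroup.orderOf_mk, Subgroup.orderOf_coe]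
      exact hk.1
    · exact (ext_apply_mem H (fun t => ((θ t : ℂˣ) : ℂ)) (h : Γ) (Subgroup.mem_inf.1 h.2).1).symm
  rw [e2, Finset.sum_congr rfl fun x _ => e3 x, Finset.sum_const, Finset.card_univ, nsmul_eq_mul]

/-- Clifford's theorem: the restriction of `χ` is a multiple of a sum of conjugates of `ψ`; every sum over `N` of a
function invariant under `Γ` times the restriction is a fixed multiple of that of `ψ` -/
theorem clifford_sum (N : Subgroup Γ) [hN : N.Normal] [Fintype N] (χ : Γ → ℂ) (hχ : IsIrrCharacter Γ χ) (ψ : N → ℂ)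
    (hψ : IsIrrCharacter N ψ) (hne : classInner (fun n : N => χ n) ψ ≠ 0) :
    ∃ c : ℂ, c ≠ 0 ∧ ∀ A : Finset N, (∀ (g : Γ) (n : N), n ∈ A ↔ (⟨g * n * g⁻¹, hN.conj_mem n n.2 g⟩ : N) ∈ A) →
      ∑ n ∈ A, χ n = c * ∑ n ∈ A, ψ n := by
  classical
  have h1 := Cfsg.Agent.S0174.result N hN χ hχ ψ hψ hne
  set C : Set (N → ℂ) := {ψ' : N → ℂ | ∃ g : Γ, ψ' = fun n : N => ψ ⟨g * n * g⁻¹, hN.conj_mem n n.2 g⟩} with hC
  have hfin : C.Finite := by
    have : C = Set.range (fun g : Γ => fun n : N => ψ ⟨g * n * g⁻¹, hN.conj_mem n n.2 g⟩) := by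
      ext ψ'
      constructor
      · rintro ⟨g, hg⟩
        exact ⟨g, hg.symm⟩
      · rintro ⟨g, hg⟩
        exact ⟨g, hg.symm⟩
    rw [this]
    exact Set.finite_range _
  have hmem : ψ ∈ C := ⟨1, by
    funext n
    congr 1
    apply Subtype.ext
    simp⟩
  rw [finsum_mem_eq_finite_toFinset_sum _ hfin] at h1
  refine ⟨classInner (fun n : N => χ n) ψ * (hfin.toFinset.card : ℂ), mul_ne_zero hne ?_, fun A hA => ?_⟩
  · have : 0 < hfin.toFinset.card := Finset.card_pos.2 ⟨ψ, by simpa using hmem⟩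
    exact_mod_cast this.ne'
  · have h2 : ∀ ψ' ∈ hfin.toFinset, ∑ n ∈ A, ψ' n = ∑ n ∈ A, ψ n := by
      intro ψ' hψ'
      rw [Set.Finite.mem_toFinset] at hψ'
      obtain ⟨g, rfl⟩ := hψ'
      refine Finset.sum_equiv (MulAut.conjNormal g : MulAut N).toEquiv (fun n => ?_) (fun n _ => ?_)
      · have : ((MulAut.conjNormal g : MulAut N).toEquiv n) = (⟨g * n * g⁻¹, hN.conj_mem n n.2 g⟩ : N) :=
          Subtype.ext (MulAut.conjNormal_apply g n)
        rw [this]
        exact hA g n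
      · have : ((MulAut.conjNormal g : MulAut N).toEquiv n) = (⟨g * n * g⁻¹, hN.conj_mem n n.2 g⟩ : N) :=
          Subtype.ext (MulAut.conjNormal_apply g n)
        rw [this]
    calc ∑ n ∈ A, χ n = ∑ n ∈ A, classInner (fun n : N => χ n) ψ * ∑ ψ' ∈ hfin.toFinset, ψ' n := by
          refine Finset.sum_congr rfl fun n _ => ?_
          have h3 : χ n = (classInner (fun n : N => χ n) ψ • ∑ i ∈ hfin.toFinset, i) n := congrFun h1 n
          rw [h3, Pi.smul_apply, Finset.sum_apply, smul_eq_mul]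
      _ = classInner (fun n : N => χ n) ψ * ∑ ψ' ∈ hfin.toFinset, ∑ n ∈ A, ψ' n := by
          rw [← Finset.mul_sum, Finset.sum_comm]
      _ = _ := by
          rw [Finset.sum_congr rfl h2, Finset.sum_const, nsmul_eq_mul]
          ring

end res

/-- deflation along a surjection -/
theorem exists_defl {G S : Type*} [Group G] [Finite G] [Group S] {π : G →* S} (hπ : Function.Surjective π) (ψ : G → ℂ)
    (hψ : IsIrrCharacter G ψ) (h : ∀ x, π x = 1 → ψ x = ψ 1) : ∃ χ : IrrCharacter S, ψ = (χ : S → ℂ) ∘ π := by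
  classical
  have := Fintype.ofFinite π.ker
  obtain ⟨χ', hχ'⟩ := Cfsg.Agent.Blocks.Deflate.exists_deflation π.ker ψ hψ (by
    rw [Finset.sum_congr rfl (fun (n : π.ker) _ => h (n : G) n.2), Finset.sum_const, Finset.card_univ, nsmul_eq_mul]
    refine mul_ne_zero ?_ (isIrr_apply_one_ne_zero hψ)
    exact_mod_cast Fintype.card_ne_zero)
  let e : G ⧸ π.ker ≃* S := QuotientGroup.quotientKerEquivOfSurjective π hπ
  have he : ∀ h : G, e.symm (π h) = QuotientGroup.mk h := by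
    intro h
    rw [MulEquiv.symm_apply_eq]
    rfl
  refine ⟨⟨fun c => (χ' : G ⧸ π.ker → ℂ) (e.symm c), isIrr_comp e.symm.toMonoidHom e.symm.surjective χ'.2⟩, ?_⟩
  rw [hχ']
  funext h
  change _ = (χ' : G ⧸ π.ker → ℂ) (e.symm (π h))
  rw [he]
  rfl

/-! ### central kernels -/

/-- the sum of an inflated function over the regular elements, central kernel -/
theorem sum_comp {G S : Type*} [Group G] [Fintype G] [Group S] [Fintype S] {p : ℕ} (hp : p.Prime) {f : G →* S}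
    (hf : Function.Surjective f) (hk : ∀ x, f x = 1 → ∀ g : G, g * x = x * g) (χ : S → ℂ) :
    ∃ c : ℂ, ∑ g : G with ¬ p ∣ orderOf g, χ (f g) = c * ∑ s : S with ¬ p ∣ orderOf s, χ s := by
  classical
  refine ⟨((Finset.univ.filter fun x : G => f x = 1 ∧ ¬ p ∣ orderOf x).card : ℂ), ?_⟩
  rw [← Finset.sum_fiberwise_of_maps_to (g := f) (t := Finset.univ.filter fun s : S => ¬ p ∣ orderOf s)
    (fun g hg => by
      simp only [Finset.mem_filter, Finset.mem_univ, true_and] at hg ⊢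
      exact fun h => hg (h.trans (orderOf_map_dvd f g))), Finset.mul_sum]
  refine Finset.sum_congr rfl fun s hs => ?_
  simp only [Finset.mem_filter, Finset.mem_univ, true_and] at hs
  rw [Finset.sum_congr rfl (g := fun _ => χ s) (fun g hg => by
    simp only [Finset.mem_filter, Finset.mem_univ, true_and] at hg
    rw [hg.2]), Finset.sum_const, nsmul_eq_mul]
  congr 1
  -- a regular lift
  obtain ⟨g₁, hg₁⟩ := hf s
  obtain ⟨g₀, hg₀, hg₀p⟩ : ∃ g₀ : G, f g₀ = s ∧ ¬ p ∣ orderOf g₀ := by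
    set m := orderOf g₁ with hm
    have hm0 : m ≠ 0 := (orderOf_pos g₁).ne'
    obtain ⟨a, ha1, ha2⟩ : ∃ a : ℕ, a ≡ 0 [MOD (ordProj[p] m)] ∧ a ≡ 1 [MOD (ordCompl[p] m)] := by
      have hco : Nat.Coprime (ordProj[p] m) (ordCompl[p] m) := by
        refine Nat.Coprime.pow_left _ ?_
        exact (Nat.Prime.coprime_iff_not_dvd hp).2 (Nat.not_dvd_ordCompl hp hm0)
      obtain ⟨a, ha⟩ := Nat.chineseRemainder hco 0 1
      exact ⟨a, ha.1, ha.2⟩
    refine ⟨g₁ ^ a, ?_, ?_⟩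
    · rw [map_pow, hg₁]
      have h1 : orderOf s ∣ ordCompl[p] m := by
        have h2 : orderOf s ∣ m := by rw [← hg₁]; exact orderOf_map_dvd f g₁
        rw [← Nat.ordProj_mul_ordCompl_eq_self m p] at h2
        refine Nat.Coprime.dvd_of_dvd_mul_left ?_ h2
        exact (Nat.Coprime.pow_left _ ((Nat.Prime.coprime_iff_not_dvd hp).2 hs)).symm
      have h3 : a ≡ 1 [MOD orderOf s] := ha2.of_dvd h1
      have h4 := (pow_eq_pow_iff_modEq (x := s)).2 h3
      rwa [pow_one] at h4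
    · intro h
      have h1 : (g₁ ^ a) ^ (ordCompl[p] m) = 1 := by
        obtain ⟨b, hb⟩ := (Nat.modEq_zero_iff_dvd).1 ha1
        rw [← pow_mul, hb, show ordProj[p] m * b * ordCompl[p] m = (ordProj[p] m * ordCompl[p] m) * b by ring,
          Nat.ordProj_mul_ordCompl_eq_self, pow_mul, hm, pow_orderOf_eq_one, one_pow]
      exact Nat.not_dvd_ordCompl hp hm0 (h.trans (orderOf_dvd_of_pow_eq_one h1))
  have key : ∀ x y : G, x * y = y * x → ¬ p ∣ orderOf x → ¬ p ∣ orderOf y → ¬ p ∣ orderOf (x * y) := by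
    intro x y hxy hx hy h
    have h1 : orderOf (x * y) ∣ orderOf x * orderOf y :=
      (Commute.orderOf_mul_dvd_lcm (show Commute x y from hxy)).trans (Nat.lcm_dvd_mul _ _)
    rcases hp.dvd_mul.1 (h.trans h1) with h2 | h2
    · exact hx h2
    · exact hy h2
  have hcard : (Finset.filter (fun g => f g = s) (Finset.univ.filter fun g : G => ¬ p ∣ orderOf g)).card =
      (Finset.univ.filter fun x : G => f x = 1 ∧ ¬ p ∣ orderOf x).card := by
    symm
    refine Finset.card_bij (fun x _ => x * g₀) (fun x hx => ?_) (fun x _ y _ h => mul_right_cancel h) (fun g hg => ?_)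
    · simp only [Finset.mem_filter, Finset.mem_univ, true_and] at hx ⊢
      refine ⟨key _ _ (hk x hx.1 g₀).symm hx.2 hg₀p, ?_⟩
      rw [map_mul, hx.1, one_mul, hg₀]
    · simp only [Finset.mem_filter, Finset.mem_univ, true_and] at hg
      have h1 : f (g * g₀⁻¹) = 1 := by rw [map_mul, map_inv, hg.2, hg₀, mul_inv_cancel]
      refine ⟨g * g₀⁻¹, ?_, by group⟩
      simp only [Finset.mem_filter, Finset.mem_univ, true_and]
      refine ⟨h1, ?_⟩
      have h2 : g * g₀⁻¹ = g₀⁻¹ * g := by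
        have h3 := hk _ h1 g₀
        calc g * g₀⁻¹ = g₀⁻¹ * (g₀ * (g * g₀⁻¹)) := by group
          _ = g₀⁻¹ * ((g * g₀⁻¹) * g₀) := by rw [h3]
          _ = g₀⁻¹ * g := by group
      exact key _ _ h2 hg.1 (by rwa [orderOf_inv])
  rw [hcard]

/-! ### the test -/

/-- **D2** -/
theorem clifford_test {Γ S : Type u} [Group Γ] [Finite Γ] [Group S] {p q : ℕ} (hp : p.Prime) (hq : q.Prime)
    (hpq : p ≠ q) (N : Subgroup Γ) [N.Normal] (π : ↥N →* S) (hπ : Function.Surjective π)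
    (hker : ∀ x : ↥N, π x = 1 → ∀ g : Γ, g * x = x * g) (H : Subgroup Γ) (θ : ↥H →* ℂˣ)
    (hθ : ∀ h : ↥H, ∃ k : ℕ, θ h ^ q ^ k = 1)
    (hirr : ∀ g : Γ, g ∉ H → ∃ (t : ↥H) (hx : g⁻¹ * t * g ∈ H), θ t ≠ θ ⟨g⁻¹ * t * g, hx⟩)
    (hθker : ∀ (x : ↥N) (hx : (x : Γ) ∈ H), π x = 1 → θ ⟨x, hx⟩ = 1)
    (z : Γ) (hzH : z ∈ H) (hzN : z ∈ N) (hz : θ ⟨z, hzH⟩ ≠ 1)
    (hidx : ¬ p ∣ (Subgroup.centralizer ({⟨z, hzH, hzN⟩} : Set ↥(H ⊓ N))).index) : ¬ Same p q S := by
  classical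
  intro hS
  have := Fintype.ofFinite Γ
  have := Fintype.ofFinite N
  have : Finite S := Finite.of_surjective π hπ
  have := Fintype.ofFinite S
  have := Fintype.ofFinite ↥(H ⊓ N)
  have hN : N.Normal := inferInstance
  -- the induced character
  set χ : Γ → ℂ := indFun H (fun t => ((θ t : ℂˣ) : ℂ)) with hχ
  have hχi : IsIrrCharacter Γ χ := Cfsg.Agent.CharactersDeep.MackeyLinear.isIrrCharacter_indFun H θ hirr
  -- a constituent of the restriction
  have hχN : IsCharacter N (fun n : N => χ n) := isCharacter_comp N.subtype (isIrr_isCharacter hχi)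
  obtain ⟨ψ, hψ, hne⟩ : ∃ ψ : N → ℂ, IsIrrCharacter N ψ ∧ classInner (fun n : N => χ n) ψ ≠ 0 := by
    by_contra hcon
    push Not at hcon
    have h0 := classFunction_eq_zero (isCharacter_isClassFunction hχN) hcon
    have h2 := congrFun h0 1
    simp only [Pi.zero_apply, OneMemClass.coe_one] at h2
    exact isIrr_apply_one_ne_zero hχi h2
  obtain ⟨c, hc0, hc⟩ := clifford_sum N χ hχi ψ hψ hne
  -- the kernel
  have hkH : ∀ x : N, π x = 1 → (x : Γ) ∈ H := by
    intro x hx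
    by_contra hxH
    obtain ⟨t, ht, hne'⟩ := hirr x hxH
    apply hne'
    congr 1
    apply Subtype.ext
    have h1 := hker x hx (t : Γ)
    change (t : Γ) = (x : Γ)⁻¹ * t * x
    rw [mul_assoc, h1, inv_mul_cancel_left]
  have hχk : ∀ x : N, π x = 1 → χ x = χ (1 : Γ) := by
    intro x hx
    rw [hχ, Cfsg.Agent.Characters.Core.indFun_apply, Cfsg.Agent.Characters.Core.indFun_apply]
    congr 1
    refine Finset.sum_congr rfl fun y _ => ?_
    have h1 : y⁻¹ * x * y = x := by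
      have := hker x hx y
      rw [mul_assoc, ← this, inv_mul_cancel_left]
    have h2 : y⁻¹ * 1 * y = 1 := by group
    rw [h1, h2, ext_apply_mem H _ _ (hkH x hx), ext_apply_mem H _ _ H.one_mem, hθker x (hkH x hx) hx]
    have h3 : (⟨1, H.one_mem⟩ : H) = 1 := rfl
    rw [h3, map_one]
  have hψk : ∀ x : N, π x = 1 → ψ x = ψ 1 := by
    intro x hx
    have h1 := hc {x} (fun g n => by
      rw [Finset.mem_singleton, Finset.mem_singleton]
      constructor
      · rintro rfl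
        apply Subtype.ext
        change g * n * g⁻¹ = n
        rw [hker n hx g, mul_inv_cancel_right]
      · intro h
        apply Subtype.ext
        have h2 : g * n * g⁻¹ = (x : Γ) := congrArg Subtype.val h
        have h3 : (n : Γ) = g⁻¹ * x * g := by rw [← h2]; group
        rw [h3, mul_assoc, ← hker x hx g, inv_mul_cancel_left])
    have h2 := hc {1} (fun g n => by
      rw [Finset.mem_singleton, Finset.mem_singleton]
      constructor
      · rintro rfl
        apply Subtype.ext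
        change g * ((1 : N) : Γ) * g⁻¹ = ((1 : N) : Γ)
        simp
      · intro h
        apply Subtype.ext
        have h2 : g * n * g⁻¹ = ((1 : N) : Γ) := congrArg Subtype.val h
        have h3 : (n : Γ) = g⁻¹ * ((1 : N) : Γ) * g := by rw [← h2]; group
        rw [h3]
        simp)
    rw [Finset.sum_singleton, Finset.sum_singleton] at h1 h2
    have h3 : χ ((1 : N) : Γ) = χ (1 : Γ) := rfl
    rw [h3, ← hχk x hx, h1] at h2
    exact mul_left_cancel₀ hc0 h2
  obtain ⟨χ', hχ'⟩ := exists_defl hπ ψ hψ hψk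
  -- regular elements are invariant
  have hreg : ∀ (r : ℕ) (g : Γ) (n : N), n ∈ (Finset.univ.filter fun n : N => ¬ r ∣ orderOf n) ↔
      (⟨g * n * g⁻¹, hN.conj_mem n n.2 g⟩ : N) ∈ (Finset.univ.filter fun n : N => ¬ r ∣ orderOf n) := by
    intro r g n
    simp only [Finset.mem_filter, Finset.mem_univ, true_and]
    have h1 : (MulAut.conjNormal g : MulAut N) n = (⟨g * n * g⁻¹, hN.conj_mem n n.2 g⟩ : N) :=
      Subtype.ext (MulAut.conjNormal_apply g n)
    have h2 : orderOf ((MulAut.conjNormal g : MulAut N) n) = orderOf n := (MulAut.conjNormal g : MulAut N).orderOf_eq n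
    rw [← h1, h2]
  have hHc : (Nat.card H : ℂ)⁻¹ ≠ 0 := inv_ne_zero (by exact_mod_cast Nat.card_pos.ne')
  have hΓc : (Fintype.card Γ : ℂ) ≠ 0 := by exact_mod_cast Fintype.card_ne_zero
  -- in the principal `q`-block of `S`
  have hq1 : χ' ∈ B0 q S := by
    rw [mem_B0_iff hq]
    obtain ⟨d, hd⟩ := sum_comp hq hπ (fun x hx g => Subtype.ext (hker x hx g)) (χ' : S → ℂ)
    intro h0
    rw [h0, mul_zero] at hd
    have h1 := hc _ (hreg q)
    have h2 : ∑ n : N with ¬ q ∣ orderOf n, ψ n = 0 := by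
      rw [← hd, hχ']
      rfl
    rw [h2, mul_zero, sum_res N H θ q] at h1
    refine mul_ne_zero hHc (mul_ne_zero hΓc ?_) h1
    have h3 : ∑ h : ↥(H ⊓ N) with ¬ q ∣ orderOf h, ((θ ⟨h, (Subgroup.mem_inf.1 h.2).1⟩ : ℂˣ) : ℂ) =
        ∑ h : ↥(H ⊓ N) with ¬ q ∣ orderOf h, (1 : ℂ) := by
      refine Finset.sum_congr rfl fun h hh => ?_
      simp only [Finset.mem_filter, Finset.mem_univ, true_and] at hh
      set h' : H := ⟨h, (Subgroup.mem_inf.1 h.2).1⟩ with hh'
      have ho : orderOf h' = orderOf h := by rw [hh', Subgroup.orderOf_mk, Subgroup.orderOf_coe]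
      obtain ⟨k, hk⟩ := hθ h'
      have h2 : orderOf (θ h') ∣ q ^ k := orderOf_dvd_of_pow_eq_one hk
      have h3 : orderOf (θ h') ∣ orderOf h' := orderOf_map_dvd θ h'
      rw [ho] at h3
      have h4 : Nat.Coprime (orderOf h) (q ^ k) := ((Nat.Prime.coprime_iff_not_dvd hq).2 hh).symm.pow_right k
      have h5 : orderOf (θ h') = 1 := Nat.eq_one_of_dvd_coprimes h4 h3 h2
      rw [orderOf_eq_one_iff.1 h5, Units.val_one]
    rw [h3, Finset.sum_const, nsmul_eq_mul, mul_one]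
    have h6 : (1 : ↥(H ⊓ N)) ∈ Finset.univ.filter fun h : ↥(H ⊓ N) => ¬ q ∣ orderOf h := by
      simp only [Finset.mem_filter, Finset.mem_univ, true_and, orderOf_one]
      exact hq.one_lt.ne' ∘ Nat.dvd_one.1
    exact_mod_cast (Finset.card_pos.2 ⟨1, h6⟩).ne'
  -- in the principal `p`-block
  have hp1 : χ' ∈ B0 p S := by rw [hS]; exact hq1
  obtain ⟨ψ', hψ'mem, hψ'⟩ := mem_B0_comp hπ hp hp1
  have h1 := (mem_B0_iff hp ψ').1 hψ'mem
  rw [hψ', ← hχ'] at h1
  have h2 := hc _ (hreg p)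
  rw [sum_res N H θ p] at h2
  -- the linear character of `H ⊓ N`
  let θ' : ↥(H ⊓ N) →* ℂˣ := θ.comp (Subgroup.inclusion inf_le_left)
  have hθ'i : IsIrrCharacter ↥(H ⊓ N) (fun t => ((θ' t : ℂˣ) : ℂ)) := Cfsg.Agent.Characters.Linear.isIrrCharacter_hom θ'
  obtain ⟨k, hk⟩ := hθ ⟨z, hzH⟩
  have hnot := hom_not_mem hp hq hpq θ' ⟨z, hzH, hzN⟩ (k := k) hk hz hidx ⟨_, hθ'i⟩ (fun _ => rfl)
  rw [mem_B0_iff hp, not_not] at hnot
  have h3 : ∑ h : ↥(H ⊓ N) with ¬ p ∣ orderOf h, ((θ ⟨h, (Subgroup.mem_inf.1 h.2).1⟩ : ℂˣ) : ℂ) = 0 := hnot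
  rw [h3, mul_zero, mul_zero] at h2
  rcases mul_eq_zero.1 h2.symm with h4 | h4
  · exact hc0 h4
  · exact h1 h4

end Cfsg.Agent.H775.PQL
end
end
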